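import Cfsg.Agent.Lib.Small.SuzOrder.Four.Cent
import Cfsg.Agent.Lib.Recog.CIT.Main
import Cfsg.Agent.Lib.Classical.Order
import Cfsg.Agent.Lib.L34Cent.Four

/-!
The quotient of `M` by `V`: a simple group of order `20160` in which every centraliser of an
involution is a two-group.
-/

set_option autoImplicit false
set_option linter.unusedSectionVars false
set_option linter.style.haveILetI false

namespace CfsgLib.Small.SuzOrder

open Subgroup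

variable {G : Type*} [Group G] {z t : G} {L : LocData z t}

namespace Frame

/-- `V` as a subgroup of `M`. -/
def VM (F : Frame L) : Subgroup F.M := F.V.subgroupOf F.M

instance VM_normal (F : Frame L) : F.VM.Normal := ⟨fun v hv m => by
  show (m : G) * (v : G) * (m : G)⁻¹ ∈ F.V
  rw [conj_eq_iff.2 (F.mem_M.1 m.2 v hv)]
  exact hv⟩

variable (F : Frame L)
include F

/-- The projection of `M`. -/
abbrev π : F.M →* F.M ⧸ F.VM := QuotientGroup.mk' F.VM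

theorem π_eq_one {m : F.M} : F.π m = 1 ↔ (m : G) ∈ F.V := QuotientGroup.eq_one_iff m

theorem π_eq {a b : F.M} : F.π a = F.π b ↔ (a : G)⁻¹ * b ∈ F.V := QuotientGroup.eq

theorem z_mem_M : z ∈ F.M := F.T0_le_M (L.W_le_T0 L.z_mem_W)

theorem z_not_V : z ∉ F.V := fun h => L.z_ne (F.V_inf_S h L.z_mem_S)

theorem πz_sq : F.π ⟨z, F.z_mem_M⟩ * F.π ⟨z, F.z_mem_M⟩ = 1 := by
  rw [← map_mul, π_eq_one]
  show z * z ∈ F.V
  rw [L.zz]
  exact one_mem _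

theorem πz_ne : F.π ⟨z, F.z_mem_M⟩ ≠ 1 := fun h => F.z_not_V (F.π_eq_one.1 h)

theorem invol_conj [Finite G] {k : F.M ⧸ F.VM} (h2 : k * k = 1) (h1 : k ≠ 1) :
    ∃ c, c * F.π ⟨z, F.z_mem_M⟩ * c⁻¹ = k := by
  obtain ⟨x, rfl⟩ := QuotientGroup.mk'_surjective F.VM k
  obtain ⟨v, hv, hz⟩ := F.exists_type x.2 (F.π_eq_one.1 (by rw [map_mul]; exact h2))
    fun h => h1 (F.π_eq_one.2 h)
  obtain ⟨m, hm, e⟩ := F.M_trans (mul_mem x.2 (F.V_le_M hv)) hz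
  refine ⟨F.π ⟨m, hm⟩, ?_⟩
  rw [← map_inv, ← map_mul, ← map_mul]
  refine F.π_eq.2 ?_
  show (m * z * m⁻¹)⁻¹ * (x : G) ∈ F.V
  rw [e, mul_inv_rev, mul_assoc, inv_mul_cancel, mul_one]
  exact inv_mem hv

theorem cent_z [Finite G] {k : F.M ⧸ F.VM}
    (h : k * F.π ⟨z, F.z_mem_M⟩ = F.π ⟨z, F.z_mem_M⟩ * k) :
    ∃ g : F.M, (g : G) ∈ L.T0 ∧ F.π g = k := by
  obtain ⟨g, rfl⟩ := QuotientGroup.mk'_surjective F.VM k
  refine ⟨g, F.M_cent_z g.2 ?_, rfl⟩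
  rw [← map_mul, ← map_mul] at h
  have h1 : ((g : G) * z)⁻¹ * (z * g) ∈ F.V := F.π_eq.1 h
  have h2 : z⁻¹ * ((g : G) * z * (g : G)⁻¹) ∈ F.V := by
    have e : z⁻¹ * ((g : G) * z * (g : G)⁻¹) = (g : G) * (((g : G) * z)⁻¹ * (z * g))⁻¹ * (g : G)⁻¹ := by
      group
    rw [e, conj_eq_iff.2 (F.mem_M.1 g.2 _ (inv_mem h1))]
    exact inv_mem h1
  have e := F.type_unique F.z_mem_M h2 (IsConj.refl z)
    (isConj_iff.2 ⟨g, by group⟩)
  exact conj_eq_iff.1 (inv_mul_eq_one.1 e).symm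

theorem pow_of_cent [Finite G] {c k : F.M ⧸ F.VM}
    (h : k * (c * F.π ⟨z, F.z_mem_M⟩ * c⁻¹) = c * F.π ⟨z, F.z_mem_M⟩ * c⁻¹ * k) :
    k ^ 256 = 1 := by
  obtain ⟨g, hg, e⟩ := F.cent_z (k := c⁻¹ * k * c) (by
    calc c⁻¹ * k * c * F.π ⟨z, F.z_mem_M⟩
        = c⁻¹ * (k * (c * F.π ⟨z, F.z_mem_M⟩ * c⁻¹)) * c := by group
      _ = c⁻¹ * (c * F.π ⟨z, F.z_mem_M⟩ * c⁻¹ * k) * c := by rw [h]
      _ = F.π ⟨z, F.z_mem_M⟩ * (c⁻¹ * k * c) := by group)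
  have hg' : g ^ 256 = 1 :=
    Subtype.ext (two_group_order (n := 8) (by rw [L.card_T0]; norm_num) hg)
  have h1 : (c⁻¹ * k * c) ^ 256 = 1 := by rw [← e, ← map_pow, hg', map_one]
  have h2 : (c⁻¹ * k * c⁻¹⁻¹) ^ 256 = 1 := by rwa [inv_inv]
  rw [conj_pow, conj_eq_one_iff] at h2
  exact h2

theorem cit [Finite G] : Recog.CIT.CIT (F.M ⧸ F.VM) := by
  intro τ hτ k
  obtain ⟨c, rfl⟩ := F.invol_conj (k := τ) (by rw [← pow_two, ← hτ, pow_orderOf_eq_one])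
    fun e => by rw [e, orderOf_one] at hτ; omega
  exact ⟨8, Subtype.ext (F.pow_of_cent (mem_centralizer_singleton_iff.1 k.2))⟩

theorem π_T0_invol [Finite G] {x : G} (hx : x ∈ F.M) (hxx : x * x = 1) (hS : x ∈ L.S)
    (h1 : x ≠ 1) : F.π ⟨x, hx⟩ * F.π ⟨x, hx⟩ = 1 ∧ F.π ⟨x, hx⟩ ≠ 1 := by
  refine ⟨?_, fun h => h1 (F.V_inf_S (F.π_eq_one.1 h) hS)⟩
  rw [← map_mul, π_eq_one]
  show x * x ∈ F.V
  rw [hxx]
  exact one_mem _

theorem odd_trivial [Finite G] (N : Subgroup (F.M ⧸ F.VM)) [N.Normal] (h : Odd (Nat.card N)) :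
    N = ⊥ := by
  have key : ∀ {w : G} (hw : w ∈ L.W) (hw' : w ∈ F.M), w ≠ 1 →
      ∀ n ∈ N, F.π ⟨w, hw'⟩ * n = n * F.π ⟨w, hw'⟩ → n = 1 := by
    intro w hw hw' hw1 n hn hc
    obtain ⟨h2, h0⟩ := F.π_T0_invol hw' (L.sq_W w hw) (L.W_le_S hw) hw1
    obtain ⟨c, hcz⟩ := F.invol_conj h2 h0
    rw [← hcz] at hc
    have h1 := orderOf_dvd_of_pow_eq_one (F.pow_of_cent hc.symm)
    refine orderOf_eq_one_iff.1 ((Nat.dvd_prime_pow Nat.prime_two).1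
      (show orderOf n ∣ 2 ^ 8 from h1) |>.elim fun k hk => ?_)
    rcases Nat.eq_zero_or_pos k with rfl | hk0
    · simpa using hk.2
    · exfalso
      refine Nat.not_even_iff_odd.2 h (even_iff_two_dvd.2 ?_)
      exact ((hk.2 ▸ dvd_pow_self 2 hk0.ne' : 2 ∣ orderOf n)).trans
        (Subgroup.orderOf_dvd_natCard N hn)
  set a := F.r * z * F.r⁻¹ with ha
  have haW : a ∈ L.W := conj_mem_of_normalizer F.r_mem.2 L.z_mem_W
  have ha1 : a ≠ 1 := fun e => L.z_ne (conj_eq_one_iff.1 e)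
  have hza1 : z * a ≠ 1 := fun e => L.z_ne (F.r_fpf z L.z_mem_W
    ((inv_eq_of_mul_eq_one_right e).symm.trans (inv_eq_of_mul_eq_one_right L.zz)))
  have haM : a ∈ F.M := F.T0_le_M (L.W_le_T0 haW)
  have hzW := mul_mem L.z_mem_W haW
  refine L34Cent.eq_bot_of_three_fpf N h (F.π ⟨z, F.z_mem_M⟩) (F.π ⟨a, haM⟩) F.πz_sq
    (F.π_T0_invol haM (L.sq_W a haW) (L.W_le_S haW) ha1).1 (key L.z_mem_W F.z_mem_M L.z_ne)
    (key haW haM ha1) fun n hn => ?_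
  rw [← map_mul]
  exact key hzW (mul_mem F.z_mem_M haM) hza1 n hn

theorem r_pow_mod (j : ℕ) : F.r ^ j = F.r ^ (j % 3) := by
  conv_lhs => rw [← Nat.div_add_mod j 3, pow_add, pow_mul, F.r_pow, one_pow, one_mul]

theorem W_cases {w : G} (hw : w ∈ L.W) (h1 : w ≠ 1) :
    ∃ j : ℕ, F.r ^ j * z * (F.r ^ j)⁻¹ = w := by
  set a := F.r * z * F.r⁻¹ with ha
  have haW : a ∈ L.W := conj_mem_of_normalizer F.r_mem.2 L.z_mem_W
  have ha1 : a ≠ 1 := fun e => L.z_ne (conj_eq_one_iff.1 e)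
  have haz : a ≠ z := fun e => L.z_ne (F.r_fpf z L.z_mem_W e)
  have hbW := conj_mem_of_normalizer F.r_mem.2 haW
  have hb : F.r * a * F.r⁻¹ = z * a := by
    rcases L.W_four haW ha1 haz hbW with e | e | e | e
    · exact absurd (conj_eq_one_iff.1 e) ha1
    · exfalso
      refine haz ?_
      calc a = F.r * z * F.r⁻¹ := rfl
        _ = F.r * (F.r * a * F.r⁻¹) * F.r⁻¹ := by rw [e]
        _ = F.r ^ 3 * z * (F.r ^ 3)⁻¹ := by
            rw [ha]; simp only [pow_succ, pow_zero, one_mul, mul_inv_rev, mul_assoc]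
        _ = z := by rw [F.r_pow]; group
    · exact absurd ((MulAut.conj F.r).injective e) haz
    · exact e
  rcases L.W_four haW ha1 haz hw with e | e | e | e
  · exact absurd e h1
  · exact ⟨0, by rw [e]; group⟩
  · exact ⟨1, by rw [e, pow_one]⟩
  · exact ⟨2, by rw [e, ← hb, ha, sq]; group⟩

theorem π_T0_mem [Finite G] {N : Subgroup (F.M ⧸ F.VM)}
    (hall : ∀ k : F.M ⧸ F.VM, k * k = 1 → k ≠ 1 → k ∈ N) {g : G} (hg : g ∈ L.T0) :
    F.π ⟨g, F.T0_le_M hg⟩ ∈ N := by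
  obtain ⟨s, hs, v, hv, rfl⟩ := F.T0_decomp hg
  have hsM : s ∈ F.M := F.T0_le_M (L.S_le hs)
  have h1 : F.π ⟨s, hsM⟩ ∈ N := by
    suffices hle : L.S ≤ (N.comap F.π).map F.M.subtype by
      obtain ⟨⟨s', hs'⟩, hmem, rfl⟩ := hle hs
      exact hmem
    rw [L.S_eq, closure_le]
    rintro y ⟨hyT, hyz⟩
    have hyS := L.mem_S_of_type hyT hyz
    refine ⟨⟨y, F.T0_le_M (L.S_le hyS)⟩, ?_, rfl⟩
    have hy1 : y ≠ 1 := fun e => L.z_ne (by
      obtain ⟨c, hc⟩ := isConj_iff.1 hyz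
      rw [e, conj_eq_one_iff] at hc
      exact hc)
    obtain ⟨h2, h0⟩ := F.π_T0_invol (F.T0_le_M (L.S_le hyS)) (F.type_sq hyz) hyS hy1
    exact hall _ h2 h0
  have e : F.π ⟨s * v, F.T0_le_M hg⟩ = F.π ⟨s, hsM⟩ := by
    refine (F.π_eq.2 ?_).symm
    show s⁻¹ * (s * v) ∈ F.V
    rwa [inv_mul_cancel_left]
  rwa [e]

theorem frattini [Finite G] {N : Subgroup (F.M ⧸ F.VM)} [N.Normal]
    (hall : ∀ k : F.M ⧸ F.VM, k * k = 1 → k ≠ 1 → k ∈ N) (k : F.M ⧸ F.VM) :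
    ∃ n ∈ N, ∃ j : ℕ, k = n * F.π ⟨F.r, F.r_mem_M⟩ ^ j := by
  obtain ⟨m, rfl⟩ := QuotientGroup.mk'_surjective F.VM k
  set X := (N.comap F.π).map F.M.subtype with hXd
  have hX : X ≤ F.M := map_subtype_le _
  have h0 : L.T0 ≤ X := fun g hg => ⟨⟨g, F.T0_le_M hg⟩, F.π_T0_mem hall hg, rfl⟩
  have hQ : cj (m : G) L.T0 ≤ X := by
    rintro _ ⟨g, hg, rfl⟩
    refine ⟨m * ⟨g, F.T0_le_M hg⟩ * m⁻¹, ?_, rfl⟩
    show F.π (m * ⟨g, F.T0_le_M hg⟩ * m⁻¹) ∈ N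
    rw [map_mul, map_mul, map_inv]
    exact Normal.conj_mem inferInstance _ (F.π_T0_mem hall hg) _
  obtain ⟨n, hn, hconj⟩ := conj_into (X := X) (P := L.T0) (Q := cj (m : G) L.T0) (n := 8) h0
    (by rw [L.card_T0]; norm_num) (fun h => F.not_512_M (h.trans (card_dvd_of_le hX))) hQ
    (IsPGroup.of_card (n := 8) (by rw [card_cj, L.card_T0]; norm_num))
  obtain ⟨n', hn', rfl⟩ := hn
  set g : G := (n' : G) * m with hgd
  have hgM : g ∈ F.M := mul_mem n'.2 m.2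
  have hgn : ∀ x ∈ L.T0, g * x * g⁻¹ ∈ L.T0 := by
    intro x hx
    have h := hconj _ (conj_mem_cj (g := (m : G)) hx)
    have e : g * x * g⁻¹ = (n' : G) * ((m : G) * x * (m : G)⁻¹) * (n' : G)⁻¹ := by
      rw [hgd]; group
    rw [e]
    exact h
  have hgW : g * z * g⁻¹ ∈ L.W := by
    refine (L.W_eq _).2 ⟨L.mem_S_of_type (L.T0_le (hgn z (L.W_le_T0 L.z_mem_W)))
      (isConj_iff.2 ⟨g, rfl⟩), fun y hy => ?_⟩
    have hy' : g⁻¹ * y * g ∈ L.T0 := by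
      have h1 := conj_mem_of_normalizer (inv_mem (mem_normalizer_of_conj hgn)) (L.S_le hy)
      rwa [inv_inv] at h1
    calc g * z * g⁻¹ * y = g * (z * (g⁻¹ * y * g)) * g⁻¹ := by group
      _ = g * (g⁻¹ * y * g * z) * g⁻¹ := by rw [L.comm_W L.z_mem_W hy']
      _ = y * (g * z * g⁻¹) := by group
  obtain ⟨j, hj⟩ := F.W_cases hgW fun e => L.z_ne (conj_eq_one_iff.1 e)
  set u : G := (F.r ^ j)⁻¹ * g with hud
  have hu : u ∈ L.T0 := F.M_cent_z (mul_mem (inv_mem (pow_mem F.r_mem_M j)) hgM) (conj_eq_iff.1 (by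
    calc u * z * u⁻¹ = (F.r ^ j)⁻¹ * (g * z * g⁻¹) * F.r ^ j := by rw [hud]; group
      _ = z := by rw [← hj]; group))
  set ρ := F.π ⟨F.r, F.r_mem_M⟩
  refine ⟨(F.π n')⁻¹ * (ρ ^ j * F.π ⟨u, F.T0_le_M hu⟩ * (ρ ^ j)⁻¹), mul_mem (inv_mem hn')
    (Normal.conj_mem inferInstance _ (F.π_T0_mem hall hu) _), j, ?_⟩
  have e : m = n'⁻¹ * (⟨F.r, F.r_mem_M⟩ ^ j * ⟨u, F.T0_le_M hu⟩) := Subtype.ext (by
    push_cast
    rw [hud, hgd]
    group)
  conv_lhs => rw [e]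
  simp only [map_mul, map_inv, map_pow, ρ]
  group

/-- The element of order three lies in every nontrivial normal subgroup. -/
theorem r_mem_normal [Finite G] {N : Subgroup (F.M ⧸ F.VM)} [N.Normal]
    (hall : ∀ k : F.M ⧸ F.VM, k * k = 1 → k ≠ 1 → k ∈ N) :
    F.π ⟨F.r, F.r_mem_M⟩ ∈ N := by
  by_contra hr
  set ρ := F.π ⟨F.r, F.r_mem_M⟩ with hρ
  let qm := QuotientGroup.mk' N
  have hρ3 : qm ρ ^ 3 = 1 := by
    rw [← map_pow, hρ, ← map_pow, show (⟨F.r, F.r_mem_M⟩ : F.M) ^ 3 = 1 from Subtype.ext F.r_pow,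
      map_one, map_one]
  have hρ1 : qm ρ ≠ 1 := fun h => hr ((QuotientGroup.eq_one_iff ρ).1 h)
  have hgen : ∀ k, ∃ j : ℕ, qm ρ ^ j = k := by
    intro k
    obtain ⟨k', rfl⟩ := QuotientGroup.mk'_surjective N k
    obtain ⟨n, hn, j, rfl⟩ := F.frattini hall k'
    exact ⟨j, by rw [map_mul, (QuotientGroup.eq_one_iff n).2 hn |> (show qm n = 1 from ·), one_mul,
      map_pow]⟩
  let φ : L.N1 0 →* (F.M ⧸ F.VM) ⧸ N := qm.comp (F.π.comp (inclusion (F.N1_le_M 0)))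
  have hφ : Function.Surjective φ := fun k => by
    obtain ⟨j, rfl⟩ := hgen k
    exact ⟨⟨F.r, F.r_mem_N1 0⟩ ^ j, by rw [map_pow]; rfl⟩
  have hQ3 : Nat.card ((F.M ⧸ F.VM) ⧸ N) = 3 := by
    rw [← orderOf_eq_prime (hp := ⟨Nat.prime_three⟩) hρ3 hρ1]
    refine (orderOf_eq_card_of_forall_mem_zpowers fun k => ?_).symm
    obtain ⟨j, rfl⟩ := hgen k
    exact pow_mem (mem_zpowers _) j
  have hker := card_mul_index φ.ker
  rw [index_ker, MonoidHom.range_eq_top.2 hφ, card_top, hQ3, F.card_N1 0] at hker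
  set Y := φ.ker.map (L.N1 0).subtype with hYd
  have hY : Nat.card Y = 1280 := by
    rw [hYd, card_map_of_injective (L.N1 0).subtype_injective]
    omega
  have hY1 : Y ≤ L.N1 0 := map_subtype_le _
  have hYT : ∀ g ∈ L.T0, g ∈ Y := fun g hg => ⟨⟨g, F.T0_le_N1 0 hg⟩,
    (QuotientGroup.eq_one_iff _).2 (F.π_T0_mem hall hg), rfl⟩
  have hst : (Y ⊓ Hc z : Subgroup G) = L.T0 :=
    le_antisymm (fun g hg => F.M_cent_z (F.N1_le_M 0 (hY1 hg.1)) (mem_Hc.1 hg.2))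
      fun g hg => ⟨hYT g hg, mem_Hc.2 (L.comm_W L.z_mem_W hg)⟩
  set O : Set G := {y | ∃ g ∈ Y, g * z * g⁻¹ = y} with hOd
  have hO : O.ncard = 5 := by
    have h := orbit_card Y z
    rw [hst, L.card_T0, hY] at h
    rw [← Nat.card_coe_set_eq]
    change Nat.card O * 256 = 1280 at h
    omega
  have hOW : ∀ y ∈ O, y ∈ L.W → y = z := by
    rintro _ ⟨g, hg, rfl⟩ hW
    obtain ⟨j, hj⟩ := F.W_cases hW fun e => L.z_ne (conj_eq_one_iff.1 e)
    set u : G := (F.r ^ j)⁻¹ * g with hud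
    have hu : u ∈ L.T0 := F.M_cent_z (mul_mem (inv_mem (pow_mem F.r_mem_M j))
      (F.N1_le_M 0 (hY1 hg))) (conj_eq_iff.1 (by
        calc u * z * u⁻¹ = (F.r ^ j)⁻¹ * (g * z * g⁻¹) * F.r ^ j := by rw [hud]; group
          _ = z := by rw [← hj]; group))
    have hrj : F.r ^ j ∈ Y := by
      have e : F.r ^ j = g * u⁻¹ := by rw [hud]; group
      rw [e]
      exact mul_mem hg (inv_mem (hYT u hu))
    have hrY : F.r ∈ Y → False := fun hrY => by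
      obtain ⟨g', hg', e⟩ := hrY
      refine hr ((QuotientGroup.eq_one_iff ρ).1 ?_)
      have e' : g' = ⟨F.r, F.r_mem_N1 0⟩ := Subtype.ext e
      rw [e'] at hg'
      exact hg'
    rw [← hj]
    have h3 : j % 3 < 3 := Nat.mod_lt _ (by norm_num)
    rw [F.r_pow_mod j] at hrj ⊢
    interval_cases hjm : j % 3
    · group
    · exact (hrY (by simpa using hrj)).elim
    · refine (hrY ?_).elim
      have h4 := mul_mem hrj hrj
      rwa [← pow_add, show 2 + 2 = 3 + 1 from rfl, pow_succ, F.r_pow, one_mul] at h4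
  have hzA : z ∈ L.A 0 := L.Z0_le_A 0 (L.W_le_Z0 L.z_mem_W)
  have hOA : ∀ y ∈ O, y ∈ L.A 0 ∧ y ∈ L.S := by
    rintro _ ⟨g, hg, rfl⟩
    exact ⟨conj_mem_of_normalizer (hY1 hg).2.1 hzA, L.N1_AS (hY1 hg) hzA L.z_mem_S⟩
  obtain ⟨x, hxO, hxz⟩ := Set.exists_ne_of_one_lt_ncard (s := O) (by omega) z
  have hxW : x ∉ L.W := fun h => hxz (hOW x hxO h)
  obtain ⟨hxA, hxS⟩ := hOA x hxO
  have hcl : ∀ g ∈ Y, ∀ y ∈ O, g * y * g⁻¹ ∈ O := by
    rintro g hg _ ⟨g', hg', rfl⟩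
    exact ⟨g * g', mul_mem hg hg', by group⟩
  have hxw : ∀ w ∈ L.W, x * w ∈ O := fun w hw => by
    obtain ⟨g, hg, e⟩ := F.T0_orbit hxA hxS hxW hw
    exact e ▸ hcl g (hYT g hg) x hxO
  have hOeq : insert z ((fun w => x * w) '' (L.W : Set G)) = O := by
    refine Set.eq_of_subset_of_ncard_le ?_ ?_ (Set.toFinite _)
    · rintro y (rfl | ⟨w, hw, rfl⟩)
      exacts [⟨1, one_mem _, by group⟩, hxw w hw]
    · rw [hO, Set.ncard_insert_of_notMem, Set.ncard_image_of_injective _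
        (mul_right_injective x), ← Nat.card_coe_set_eq]
      · exact (Nat.succ_le_succ L.card_W.ge)
      · rintro ⟨w, hw, e⟩
        refine hxW ?_
        have : x = z * w⁻¹ := by rw [← e]; group
        rw [this]
        exact mul_mem L.z_mem_W (inv_mem hw)
  obtain ⟨g, hg, hgx⟩ := hxO
  set u := F.r * z * F.r⁻¹ with hu
  have huW : u ∈ L.W := conj_mem_of_normalizer F.r_mem.2 L.z_mem_W
  have hp : g⁻¹ * (x * u) * g⁻¹⁻¹ ∈ O := hcl _ (inv_mem hg) _ (hxw u huW)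
  rw [← hOeq] at hp
  rcases hp with e | ⟨w, hw, e⟩
  · refine L.z_ne (F.r_fpf z L.z_mem_W ?_)
    have e1 : x * u = x := by
      calc x * u = g * (g⁻¹ * (x * u) * g⁻¹⁻¹) * g⁻¹ := by group
        _ = x := by rw [e]; exact hgx
    rw [mul_eq_left] at e1
    exact absurd (conj_eq_one_iff.1 e1) L.z_ne
  · have hq := hcl g hg _ (hxw (w * z) (mul_mem hw L.z_mem_W))
    have e1 : g * (x * (w * z)) * g⁻¹ = u := by
      calc g * (x * (w * z)) * g⁻¹ = g * (x * w) * g⁻¹ * (g * z * g⁻¹) := by group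
        _ = (x * u) * x := by
            rw [show x * w = g⁻¹ * (x * u) * g⁻¹⁻¹ from e, hgx]; group
        _ = u := by
            rw [L.A_comm hxA (L.Z0_le_A 0 (L.W_le_Z0 huW)), mul_assoc, L.A_sq 0 x hxA, mul_one]
    rw [e1] at hq
    exact L.z_ne (F.r_fpf z L.z_mem_W (hOW u hq huW))

theorem eq_top_of_normal [Finite G] {N : Subgroup (F.M ⧸ F.VM)} [hN : N.Normal] (h : N ≠ ⊥) :
    N = ⊤ := by
  haveI : Fact (Nat.Prime 2) := ⟨Nat.prime_two⟩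
  have he : 2 ∣ Nat.card N := by
    by_contra h2
    exact h (F.odd_trivial N (Nat.not_even_iff_odd.1 fun he => h2 he.two_dvd))
  obtain ⟨τ, hτ⟩ := exists_prime_orderOf_dvd_card' (G := N) 2 he
  rw [← Subgroup.orderOf_coe] at hτ
  have hall : ∀ k : F.M ⧸ F.VM, k * k = 1 → k ≠ 1 → k ∈ N := by
    intro k h2 h1
    obtain ⟨c, hc⟩ := F.invol_conj h2 h1
    obtain ⟨d, hd⟩ := F.invol_conj (k := (τ : F.M ⧸ F.VM))
      (by rw [← pow_two, ← hτ, pow_orderOf_eq_one]) fun e => by rw [e, orderOf_one] at hτ; omega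
    have e : k = c * d⁻¹ * (τ : F.M ⧸ F.VM) * (c * d⁻¹)⁻¹ := by rw [← hc, ← hd]; group
    rw [e]
    exact hN.conj_mem _ τ.2 _
  refine (eq_top_iff' N).2 fun k => ?_
  obtain ⟨n, hn, j, rfl⟩ := F.frattini hall k
  exact mul_mem hn (pow_mem (F.r_mem_normal hall) j)

theorem simple [Finite G] : IsSimpleGroup (F.M ⧸ F.VM) where
  exists_pair_ne := ⟨_, _, F.πz_ne⟩
  eq_bot_or_eq_top_of_normal N _hN := by
    by_cases h : N = ⊥
    · exact Or.inl h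
    · exact Or.inr (F.eq_top_of_normal h)

/-- An involution of `T₀` modulo `V` that is not central. -/
theorem exists_noncentral [Finite G] : ∃ x g : F.M, (x : G) ∈ L.T0 ∧ (g : G) ∈ L.T0 ∧
    F.π x * F.π x = 1 ∧ F.π x ≠ 1 ∧ F.π g * F.π x ≠ F.π x * F.π g := by
  obtain ⟨x, hx, hxS, hxW⟩ := L.exists_AS_not_W 0
  obtain ⟨g, hg, e⟩ := F.T0_orbit hx hxS hxW L.z_mem_W
  have hxM : x ∈ F.M := F.T0_le_M (L.A_le 0 hx)
  obtain ⟨h2, h0⟩ := F.π_T0_invol hxM (L.A_sq 0 x hx) hxS fun e => hxW (e ▸ one_mem _)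
  refine ⟨⟨x, hxM⟩, ⟨g, F.T0_le_M hg⟩, L.A_le 0 hx, hg, h2, h0, fun h => F.z_not_V ?_⟩
  rw [← map_mul, ← map_mul] at h
  have h1 : (g * x)⁻¹ * (x * g) ∈ F.V := F.π_eq.1 h
  rw [conj_eq_iff] at e
  rw [e, show (x * z * g)⁻¹ * (x * g) = g⁻¹ * z⁻¹ * g by group] at h1
  have hzc : g⁻¹ * z⁻¹ * g = z := by
    rw [inv_eq_of_mul_eq_one_right L.zz, mul_assoc, ← L.comm_W L.z_mem_W hg, inv_mul_cancel_left]
  rwa [hzc] at h1

theorem not_hasSE [Finite G] : ¬ Recog.CIT.HasSE (F.M ⧸ F.VM) := by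
  rintro ⟨S, D, q, hS⟩
  haveI : Fact (Nat.Prime 2) := ⟨Nat.prime_two⟩
  obtain ⟨x, g, hx, hg, h2, -, hne⟩ := F.exists_noncentral
  set P := (L.T0.subgroupOf F.M).map F.π with hPd
  have hP : IsPGroup 2 P := (IsPGroup.of_card (n := 8) (by
    rw [Nat.card_congr (subgroupOfEquivOfLe F.T0_le_M).toEquiv, L.card_T0]; norm_num)).map F.π
  obtain ⟨R, hR⟩ := hP.exists_le_sylow
  obtain ⟨R', hR'⟩ := hS.isP.exists_le_sylow
  obtain ⟨c, hc⟩ := MulAction.exists_smul_eq (F.M ⧸ F.VM) R R'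
  have hmem : ∀ k ∈ P, c * k * c⁻¹ ∈ S := fun k hk => by
    have h' : c * k * c⁻¹ ∈ (c • R : Sylow 2 (F.M ⧸ F.VM)) := by
      rw [Sylow.smul_def]; exact ⟨k, hR hk, rfl⟩
    rw [hc] at h'
    rw [← hS.maxP R' R'.isPGroup' hR']
    exact h'
  have hxS := hmem _ ⟨x, hx, rfl⟩
  have hgS := hmem _ ⟨g, hg, rfl⟩
  refine hne ?_
  have e := hS.central _ hxS (conj_sq c h2) _ hgS
  rw [← conj_mul, ← conj_mul] at e
  exact mul_left_cancel (mul_right_cancel e)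

theorem card_M_quot [Finite G] : Nat.card F.M = Nat.card (F.M ⧸ F.VM) * 4 := by
  rw [card_eq_card_quotient_mul_card_subgroup F.VM,
    show Nat.card F.VM = 4 from
      (Nat.card_congr (subgroupOfEquivOfLe F.V_le_M).toEquiv).trans F.card_V]

theorem two_part [Finite G] :
    64 ∣ Nat.card (F.M ⧸ F.VM) ∧ ¬ 128 ∣ Nat.card (F.M ⧸ F.VM) := by
  have h1 : 256 ∣ Nat.card F.M := L.card_T0 ▸ card_dvd_of_le F.T0_le_M
  have h2 := F.not_512_M
  rw [F.card_M_quot] at h1 h2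
  norm_num at h2
  refine ⟨?_, fun ⟨k, hk⟩ => h2 ⟨k, by rw [hk]; ring⟩⟩
  omega

end Frame

/-- The groups of odd type have no Sylow two-subgroup of order `64`. -/
theorem oddType_two {K : Type*} [Group K] (h : Recog.CIT.IsOddType K) :
    ¬ (64 ∣ Nat.card K ∧ ¬ 128 ∣ Nat.card K) := by
  obtain ⟨⟨F, _, _, hF, ⟨e⟩⟩, -⟩ := h
  rw [Nat.card_congr e.toEquiv, Classical.card_PSL_two, Nat.card_eq_fintype_card]
  generalize Fintype.card F = q at hF ⊢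
  rintro ⟨h64, h128⟩
  rcases hF with rfl | ⟨hp, k, hk⟩
  · norm_num at h64
  by_cases hk7 : 7 ≤ k
  · refine h128 ?_
    obtain ⟨j, rfl⟩ := Nat.exists_eq_add_of_le hk7
    have h2 : 2 ∣ 2 ^ (7 + j) := dvd_pow_self 2 (by omega)
    have h7 : 2 ^ 7 ∣ 2 ^ (7 + j) := pow_dvd_pow 2 (by omega)
    have hpos : 0 < 2 ^ (7 + j) := by positivity
    have hgcd : Nat.gcd 2 (q - 1) = 2 := Nat.gcd_eq_left (by rcases hk with e' | e' <;> omega)
    have h1 : 256 ∣ q * (q ^ 2 - 1) := by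
      refine Dvd.dvd.mul_left ?_ q
      have hsq : q ^ 2 - 1 = (q + 1) * (q - 1) := by rw [← Nat.sq_sub_sq q 1, one_pow]
      rw [hsq]
      rcases hk with e' | e'
      · exact (show 256 = 2 * 2 ^ 7 by norm_num) ▸ Nat.mul_dvd_mul (by omega)
          (by rw [e', Nat.add_sub_cancel]; exact h7)
      · exact (show 256 = 2 ^ 7 * 2 by norm_num) ▸ Nat.mul_dvd_mul (by rw [e']; exact h7)
          (by omega)
    rw [hgcd]
    exact Nat.dvd_div_of_mul_dvd (by simpa using h1)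
  · rcases hk with e' | e'
    · subst e'
      revert h64 hp
      interval_cases k <;> norm_num
    · obtain rfl : q = 2 ^ k - 1 := by omega
      revert h64 hp
      interval_cases k <;> norm_num

theorem Frame.card_quot [Finite G] (F : Frame L) : Nat.card (F.M ⧸ F.VM) = 20160 := by
  haveI := F.simple
  obtain ⟨x, g, -, -, -, -, hne⟩ := F.exists_noncentral
  rcases Recog.CIT.known_of_cit ⟨_, _, hne⟩ F.cit with ⟨h, -⟩ | h | h
  · exact absurd h F.not_hasSE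
  · exact absurd F.two_part (oddType_two h)
  · obtain ⟨E, _, _, hE, ⟨e⟩⟩ := h
    rw [Nat.card_congr e.toEquiv, Classical.card_PSL_fin 3 (by norm_num), Classical.card_SL_fin',
      Nat.card_eq_fintype_card, hE]
    decide

end CfsgLib.Small.SuzOrder
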