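import Cfsg.Agent.Lib.Small.SuzOrder.Four.Norm

/-!
The centraliser `M` of the four-group `V`: its Sylow two-subgroup is `T₀` and it is transitive on
the conjugates of `z` it contains.
-/

set_option autoImplicit false
set_option linter.unusedSectionVars false
set_option linter.style.haveILetI false

namespace CfsgLib.Small.SuzOrder

open Subgroup

variable {G : Type*} [Group G]

/-- A two-subgroup of `X` is conjugate in `X` into a given Sylow two-subgroup. -/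
theorem conj_into [Finite G] {X P Q : Subgroup G} {n : ℕ} (hP : P ≤ X)
    (hPn : Nat.card P = 2 ^ n) (hX : ¬ 2 ^ (n + 1) ∣ Nat.card X) (hQ : Q ≤ X)
    (hQ2 : IsPGroup 2 Q) : ∃ g ∈ X, ∀ q ∈ Q, g * q * g⁻¹ ∈ P := by
  haveI : Fact (Nat.Prime 2) := ⟨Nat.prime_two⟩
  have hc : Nat.card (P.subgroupOf X) = 2 ^ n := by
    rw [Nat.card_congr (subgroupOfEquivOfLe hP).toEquiv, hPn]
  have hi : ¬ 2 ∣ (P.subgroupOf X).index := fun h => hX (by
    rw [← card_mul_index (P.subgroupOf X), hc, pow_succ]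
    exact Nat.mul_dvd_mul_left _ h)
  let PS : Sylow 2 X := (IsPGroup.of_card hc).toSylow hi
  obtain ⟨R, hR⟩ := (hQ2.of_equiv (subgroupOfEquivOfLe hQ).symm).exists_le_sylow
  obtain ⟨g, hg⟩ := MulAction.exists_smul_eq X R PS
  refine ⟨g, g.2, fun q hq => ?_⟩
  have h1 : (⟨q, hQ hq⟩ : X) ∈ R := hR hq
  have h2 : g * ⟨q, hQ hq⟩ * g⁻¹ ∈ (g • R : Sylow 2 X) := by
    rw [Sylow.smul_def]
    exact ⟨_, h1, rfl⟩
  rw [hg] at h2
  exact h2

theorem conj_mul (g x y : G) : g * (x * y) * g⁻¹ = g * x * g⁻¹ * (g * y * g⁻¹) := by group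

namespace LocData

variable {z t : G} (L : LocData z t)
include L

theorem zt_not_type : ¬ IsConj z (z * t) := fun h => L.t_not_S (by
  have h1 := mul_mem L.z_mem_S (L.mem_S_of_type (mul_mem L.z_mem_T L.t_mem_T) h)
  rwa [← mul_assoc, L.zz, one_mul] at h1)

theorem T0_index [Finite G] : (L.T0.subgroupOf (Tz z t)).index = 2 := by
  have h := card_mul_index (L.T0.subgroupOf (Tz z t))
  rw [Nat.card_congr (subgroupOfEquivOfLe L.T0_le).toEquiv, L.card_T, L.card_T0] at h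
  omega

/-- `Tz z t` is a Sylow two-subgroup of the centraliser of `t`. -/
theorem not_1024 [Finite G] : ¬ 2 ^ 10 ∣ Nat.card (Hc t) := by
  intro hdvd
  haveI : Fact (Nat.Prime 2) := ⟨Nat.prime_two⟩
  set T := (Tz z t).subgroupOf (Hc t) with hTd
  have hc : Nat.card T = 2 ^ 9 := by
    rw [hTd, Nat.card_congr (subgroupOfEquivOfLe (T_le_H (z := z) (t := t))).toEquiv, L.card_T]
    norm_num
  obtain ⟨P, hP, hle⟩ := Sylow.exists_subgroup_card_pow_succ (p := 2) (n := 9)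
    (G := Hc t) hdvd hc
  have hi : (T.subgroupOf P).index = 2 := by
    have := card_mul_index (T.subgroupOf P)
    rw [Nat.card_congr (subgroupOfEquivOfLe hle).toEquiv, hc, hP] at this
    omega
  have hn := normal_of_index_eq_two hi
  obtain ⟨g, hgP, hgT⟩ : ∃ g ∈ P, g ∉ T := by
    by_contra h
    push Not at h
    have := card_le_of_le (show P ≤ T from h)
    rw [hP, hc] at this
    omega
  have hgn : ∀ x ∈ Tz z t, (g : G) * x * (g : G)⁻¹ ∈ Tz z t := by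
    intro x hx
    have h1 : (⟨x, T_le_H hx⟩ : Hc t) ∈ T := hx
    exact hn.conj_mem ⟨_, hle h1⟩ h1 ⟨g, hgP⟩
  have hg' : ∀ x ∈ Tz z t, (g : G)⁻¹ * x * g ∈ Tz z t := by
    intro x hx
    have h1 := conj_mem_of_normalizer (inv_mem (mem_normalizer_of_conj hgn)) hx
    rwa [inv_inv] at h1
  have hcen := L.center_T _ (hgn z L.z_mem_T) fun y hy => by
    calc (g : G) * z * (g : G)⁻¹ * y = g * (z * ((g : G)⁻¹ * y * g)) * (g : G)⁻¹ := by group
      _ = g * ((g : G)⁻¹ * y * g * z) * (g : G)⁻¹ := by rw [(mem_Tz.1 (hg' y hy)).1]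
      _ = y * (g * z * (g : G)⁻¹) := by group
  rcases hcen with e | e | e | e
  · exact L.z_ne (conj_eq_one_iff.1 e)
  · exact hgT (mem_Tz.2 ⟨conj_eq_iff.1 e, mem_Hc.1 g.2⟩)
  · exact L.not_conj (isConj_iff.2 ⟨g, e⟩)
  · exact L.zt_not_type (isConj_iff.2 ⟨g, e⟩)

theorem A_inf_S_le_W [Finite G] {x : G} (h0 : x ∈ L.A 0) (h1 : x ∈ L.A 1) (hS : x ∈ L.S) :
    x ∈ L.W := by
  by_contra hW
  refine L.A_ne (eq_of_le_of_card_ge (fun g hg => ?_) (by rw [L.card_A, L.card_A]))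
  exact L.A_cent 1 x h1 hS hW g (L.A_le 0 hg) (L.A_comm hg h0)

theorem A_AS_not_le [Finite G] {i k : Fin 2} (h : ∀ x ∈ L.A i, x ∈ L.S → x ∈ L.A k) : i = k := by
  obtain ⟨x, hx, hS, hW⟩ := L.exists_AS_not_W i
  have hxk := h x hx hS
  fin_cases i <;> fin_cases k <;> first
    | rfl
    | exact absurd (L.A_inf_S_le_W hx hxk hS) hW
    | exact absurd (L.A_inf_S_le_W hxk hx hS) hW

theorem comm_W {x : G} (hx : x ∈ L.W) {y : G} (hy : y ∈ L.T0) : y * x = x * y :=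
  L.W_comm_T0 hx hy

end LocData

namespace Frame

variable {z t : G} {L : LocData z t} (F : Frame L)
include F

/-- The centraliser of `V`. -/
def M : Subgroup G := centralizer (F.V : Set G)

theorem mem_M {g : G} : g ∈ F.M ↔ ∀ v ∈ F.V, g * v = v * g := by
  rw [M, mem_centralizer_iff]
  exact ⟨fun h v hv => (h v hv).symm, fun h v hv => (h v hv).symm⟩

theorem M_le_H : F.M ≤ Hc t := fun _g hg => mem_Hc.2 (F.mem_M.1 hg t F.t_mem_V)

theorem T0_le_M : L.T0 ≤ F.M := fun _g hg => F.mem_M.2 fun _v hv => (F.V_comm hv hg).symm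

theorem r_mem_M : F.r ∈ F.M := F.mem_M.2 fun _v hv => (F.V_comm_r hv).symm

theorem V_le_M : F.V ≤ F.M := F.V_le_T0.trans F.T0_le_M

theorem N1_le_M [Finite G] (i : Fin 2) : L.N1 i ≤ F.M :=
  fun _g hg => F.mem_M.2 fun _v hv => F.N1_cent_V hg hv

theorem V_eq_one_of_type {v : G} (hv : v ∈ F.V) (h : IsConj z v) : v = 1 := by
  by_contra h1
  exact L.not_conj (h.trans (F.V_type hv h1).symm)

/-- Only the elements of `T₀` among those of `Tz z t` centralise `V`. -/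
theorem mem_T0_of_M [Finite G] {y : G} (hy : y ∈ Tz z t) (hM : y ∈ F.M) : y ∈ L.T0 := by
  by_contra hy0
  have hle : ∀ v ∈ F.V, v = 1 ∨ v = t := by
    intro v hv
    have hc : ∀ x ∈ Tz z t, v * x = x * v := by
      intro x hx
      by_cases hx0 : x ∈ L.T0
      · exact F.V_comm hv hx0
      · have h1 : ((⟨x, hx⟩ : Tz z t) * ⟨y, hy⟩) ∈ L.T0.subgroupOf (Tz z t) :=
          (mul_mem_iff_of_index_two L.T0_index).2 (iff_of_false hx0 hy0)
        have e1 : x ∈ centralizer ({v} : Set G) := by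
          have h2 : x * y ∈ centralizer ({v} : Set G) :=
            mem_centralizer_singleton_iff.2 (F.V_comm hv h1).symm
          have h3 : y ∈ centralizer ({v} : Set G) :=
            mem_centralizer_singleton_iff.2 (F.mem_M.1 hM v hv)
          simpa using mul_mem h2 (inv_mem h3)
        exact (mem_centralizer_singleton_iff.1 e1).symm
    rcases L.center_T v (L.T0_le (F.V_le_T0 hv)) hc with e | e | e | e
    · exact Or.inl e
    · exact absurd (F.V_eq_one_of_type hv (e ▸ IsConj.refl z)) (e ▸ L.z_ne)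
    · exact Or.inr e
    · have hzV : z ∈ F.V := by
        have h1 := mul_mem (e ▸ hv) F.t_mem_V
        rwa [mul_assoc, L.tt, mul_one] at h1
      exact absurd (F.V_inf_S hzV L.z_mem_S) L.z_ne
  have h4 : Nat.card F.V ≤ 2 := by
    have h := Set.ncard_le_ncard (show (F.V : Set G) ⊆ {1, t} from fun v hv => hle v hv)
      (Set.toFinite _)
    rw [← Nat.card_coe_set_eq] at h
    exact h.trans ((Set.ncard_insert_le _ _).trans (by rw [Set.ncard_singleton]))
  rw [F.card_V] at h4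
  omega

theorem M_cent_z [Finite G] {g : G} (hg : g ∈ F.M) (hz : g * z = z * g) : g ∈ L.T0 :=
  F.mem_T0_of_M (mem_Tz.2 ⟨hz, mem_Hc.1 (F.M_le_H hg)⟩) hg

/-- `T₀` is a Sylow two-subgroup of `M`. -/
theorem not_512_M [Finite G] : ¬ 2 ^ 9 ∣ Nat.card F.M := by
  intro hdvd
  haveI : Fact (Nat.Prime 2) := ⟨Nat.prime_two⟩
  obtain ⟨P, hP⟩ := Sylow.exists_subgroup_card_pow_prime (G := F.M) 2 hdvd
  set Q := P.map F.M.subtype with hQd
  have hQc : Nat.card Q = 2 ^ 9 := by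
    rw [hQd, card_map_of_injective F.M.subtype_injective, hP]
  obtain ⟨h, hh, hPT⟩ := conj_into (X := Hc t) (P := Tz z t) (Q := Q) (n := 9)
    LocData.T_le_H (by rw [L.card_T]; norm_num) L.not_1024
    ((map_subtype_le P).trans F.M_le_H) (IsPGroup.of_card hQc)
  have he : cj h Q = Tz z t := by
    refine eq_of_le_of_card_ge ?_ (by rw [card_cj, hQc, L.card_T]; norm_num)
    rintro _ ⟨q, hq, rfl⟩
    exact hPT q hq
  have key : ∀ v ∈ F.V, ∀ x ∈ Tz z t, h * v * h⁻¹ * x = x * (h * v * h⁻¹) := by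
    intro v hv x hx
    rw [← he] at hx
    obtain ⟨q, hq, rfl⟩ := hx
    have e := F.mem_M.1 (map_subtype_le P hq) v hv
    show h * v * h⁻¹ * (h * q * h⁻¹) = h * q * h⁻¹ * (h * v * h⁻¹)
    rw [← conj_mul, ← conj_mul, e]
  have hsub : ∀ v ∈ F.V, h * v * h⁻¹ = 1 ∨ h * v * h⁻¹ = t ∨ h * v * h⁻¹ = z * t := by
    intro v hv
    have hmem : h * v * h⁻¹ ∈ Tz z t := mem_Tz.2 ⟨key v hv z L.z_mem_T, key v hv t L.t_mem_T⟩
    rcases L.center_T _ hmem (key v hv) with e | e | e | e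
    · exact Or.inl e
    · refine absurd ?_ L.z_ne
      have h1 := F.V_eq_one_of_type hv (e ▸ (isConj_iff.2 ⟨h, rfl⟩ : IsConj v (h * v * h⁻¹))).symm
      rw [← e, h1]; group
    · exact Or.inr (Or.inl e)
    · exact Or.inr (Or.inr e)
  have h4 : Nat.card F.V ≤ 3 := by
    have hinj : Function.Injective fun v : F.V => h * (v : G) * h⁻¹ :=
      fun a b e => Subtype.ext (mul_left_cancel (mul_right_cancel e))
    rw [← Nat.card_range_of_injective hinj, Nat.card_coe_set_eq]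
    refine (Set.ncard_le_ncard (t := {1, t, z * t}) ?_ (Set.toFinite _)).trans ?_
    · rintro _ ⟨v, rfl⟩
      exact hsub v v.2
    · refine (Set.ncard_insert_le _ _).trans (Nat.succ_le_succ ?_)
      exact (Set.ncard_insert_le _ _).trans (by rw [Set.ncard_singleton])
  rw [F.card_V] at h4
  omega

theorem conj_into_T0 [Finite G] {x : G} (hx : x ∈ F.M) {n : ℕ} (h : x ^ (2 ^ n) = 1) :
    ∃ m ∈ F.M, m * x * m⁻¹ ∈ L.T0 := by
  haveI : Fact (Nat.Prime 2) := ⟨Nat.prime_two⟩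
  obtain ⟨k, -, hk⟩ := (Nat.dvd_prime_pow Nat.prime_two).1 (orderOf_dvd_of_pow_eq_one h)
  obtain ⟨m, hm, hm'⟩ := conj_into (X := F.M) (P := L.T0) (Q := zpowers x) (n := 8) F.T0_le_M
    (by rw [L.card_T0]; norm_num) F.not_512_M (zpowers_le.2 hx)
    (IsPGroup.of_card (n := k) (by rw [Nat.card_zpowers, hk]))
  exact ⟨m, hm, hm' x (mem_zpowers x)⟩

theorem type_sq {x : G} (h : IsConj z x) : x * x = 1 := by
  obtain ⟨g, rfl⟩ := isConj_iff.1 h
  exact conj_sq g L.zz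

/-- `M` is transitive on its conjugates of `z`. -/
theorem M_trans [Finite G] {x : G} (hx : x ∈ F.M) (hz : IsConj z x) :
    ∃ m ∈ F.M, m * z * m⁻¹ = x := by
  obtain ⟨m, hm, hmT⟩ := F.conj_into_T0 hx (n := 1) (by rw [pow_one, sq, F.type_sq hz])
  have hS : m * x * m⁻¹ ∈ L.S :=
    L.mem_S_of_type (L.T0_le hmT) (hz.trans (isConj_iff.2 ⟨m, rfl⟩))
  have hne : m * x * m⁻¹ ≠ 1 := fun e => by
    obtain ⟨g, hg⟩ := isConj_iff.1 hz
    rw [conj_eq_one_iff] at e
    rw [e, conj_eq_one_iff] at hg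
    exact L.z_ne hg
  obtain ⟨i, hi⟩ : ∃ i, m * x * m⁻¹ ∈ L.A i := by
    rcases L.A_cover _ hS (conj_sq m (F.type_sq hz)) with e | e <;> exact ⟨_, e⟩
  obtain ⟨g, hg, e⟩ := F.N1_trans hi hS hne
  refine ⟨m⁻¹ * g, mul_mem (inv_mem hm) (F.N1_le_M i hg), ?_⟩
  calc m⁻¹ * g * z * (m⁻¹ * g)⁻¹ = m⁻¹ * (g * z * g⁻¹) * m := by group
    _ = x := by rw [e]; group

/-- A coset of `V` contains at most one conjugate of `z`. -/
theorem type_unique [Finite G] {x v : G} (hx : x ∈ F.M) (hv : v ∈ F.V) (h1 : IsConj z x)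
    (h2 : IsConj z (x * v)) : v = 1 := by
  obtain ⟨m, hm, rfl⟩ := F.M_trans hx h1
  have e : m⁻¹ * (m * z * m⁻¹ * v) * m⁻¹⁻¹ = z * v := by
    calc m⁻¹ * (m * z * m⁻¹ * v) * m⁻¹⁻¹ = z * (m⁻¹ * (v * m)) := by group
      _ = z * (m⁻¹ * (m * v)) := by rw [F.mem_M.1 hm v hv]
      _ = z * v := by group
  have hzv : z * v ∈ L.S := L.mem_S_of_type (mul_mem L.z_mem_T (L.T0_le (F.V_le_T0 hv)))
    (h2.trans (isConj_iff.2 ⟨m⁻¹, e⟩))
  refine F.V_inf_S hv ?_
  have h := mul_mem L.z_mem_S hzv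
  rwa [← mul_assoc, L.zz, one_mul] at h

/-- An element of `M` that is an involution modulo `V` has a conjugate of `z` in its coset. -/
theorem exists_type [Finite G] {x : G} (hx : x ∈ F.M) (h2 : x * x ∈ F.V) (hxV : x ∉ F.V) :
    ∃ v ∈ F.V, IsConj z (x * v) := by
  obtain ⟨m, hm, hmT⟩ := F.conj_into_T0 hx (n := 2) (by
    rw [show 2 ^ 2 = 2 * 2 from rfl, pow_mul, pow_two, pow_two, F.V_sq h2])
  obtain ⟨s, hs, v, hv, e⟩ := F.T0_decomp hmT
  have hvs : v * s = s * v := F.V_comm hv (L.S_le hs)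
  have hss : s * s = x * x := by
    calc s * s = s * s * (v * v) := by rw [F.V_sq hv, mul_one]
      _ = s * (v * s) * v := by rw [hvs]; group
      _ = (m * x * m⁻¹) * (m * x * m⁻¹) := by rw [e]; group
      _ = m * (x * x) * m⁻¹ := by group
      _ = x * x := conj_eq_iff.2 (F.mem_M.1 hm _ h2)
  have hs1 : s * s = 1 := F.V_inf_S (hss ▸ h2) (mul_mem hs hs)
  have hx' : x = m⁻¹ * s * m * v := by
    calc x = m⁻¹ * (m * x * m⁻¹) * m := by group
      _ = m⁻¹ * (s * v) * m := by rw [e]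
      _ = m⁻¹ * s * (v * m) := by group
      _ = m⁻¹ * s * (m * v) := by rw [F.mem_M.1 hm v hv]
      _ = m⁻¹ * s * m * v := by group
  rcases L.invol_S s hs hs1 with rfl | hz
  · exact absurd (by rw [hx']; simpa using hv) hxV
  · refine ⟨v, hv, hz.trans (isConj_iff.2 ⟨m⁻¹, ?_⟩)⟩
    rw [hx', mul_assoc (m⁻¹ * s * m) v v, F.V_sq hv, mul_one, inv_inv]

/-- The two elementary subgroups have different normalisers. -/
theorem N1_ne [Finite G] : L.N1 0 ≠ L.N1 1 := fun h => by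
  refine absurd (L.A_AS_not_le (i := 0) (k := 1) fun x hx hS => ?_) (by decide)
  by_cases hx1 : x = 1
  · rw [hx1]; exact one_mem _
  obtain ⟨g, hg, e⟩ := F.N1_trans hx hS hx1
  have hg1 : g ∈ L.N1 1 := h ▸ hg
  exact e ▸ conj_mem_of_normalizer hg1.2.1 (L.Z0_le_A 1 (L.W_le_Z0 L.z_mem_W))

/-- Commutators of `T₀` with an elementary subgroup of `S` lie in `W`. -/
theorem comm_mem_W [Finite G] {i : Fin 2} {x g : G} (hx : x ∈ L.A i) (hxS : x ∈ L.S)
    (hg : g ∈ L.T0) : g * x * g⁻¹ * x⁻¹ ∈ L.W := by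
  let D : Subgroup G :=
    { carrier := {h | h ∈ L.T0 ∧ h * x * h⁻¹ * x⁻¹ ∈ L.W}
      one_mem' := ⟨one_mem _, by simp⟩
      mul_mem' := by
        rintro a b ⟨ha, ha'⟩ ⟨hb, hb'⟩
        refine ⟨mul_mem ha hb, ?_⟩
        have e : a * b * x * (a * b)⁻¹ * x⁻¹
            = (b * x * b⁻¹ * x⁻¹) * (a * x * a⁻¹ * x⁻¹) := by
          calc a * b * x * (a * b)⁻¹ * x⁻¹
              = a * (b * x * b⁻¹ * x⁻¹) * x * a⁻¹ * x⁻¹ := by group
            _ = (b * x * b⁻¹ * x⁻¹) * a * x * a⁻¹ * x⁻¹ := by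
                rw [L.comm_W hb' ha]
            _ = _ := by group
        rw [e]
        exact mul_mem hb' ha'
      inv_mem' := by
        rintro a ⟨ha, ha'⟩
        refine ⟨inv_mem ha, ?_⟩
        have e : a⁻¹ * x * a⁻¹⁻¹ * x⁻¹ = (a * x * a⁻¹ * x⁻¹)⁻¹ := by
          calc a⁻¹ * x * a⁻¹⁻¹ * x⁻¹ = a⁻¹ * (a * x * a⁻¹ * x⁻¹)⁻¹ * a := by group
            _ = (a * x * a⁻¹ * x⁻¹)⁻¹ := by
                rw [L.comm_W (inv_mem ha') (inv_mem ha)]
                group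
        rw [e]
        exact inv_mem ha' }
  have hSD : L.S ≤ D := by
    intro s hs
    rw [L.S_eq] at hs
    refine (closure_le D).2 (fun y hy => ?_) hs
    have hyS := L.mem_S_of_type hy.1 hy.2
    have hy0 : y ∈ L.T0 := L.S_le hyS
    refine ⟨hy0, ?_⟩
    obtain ⟨k, hk⟩ : ∃ k, y ∈ L.A k := by
      rcases L.A_cover y hyS (F.type_sq hy.2) with e | e <;> exact ⟨_, e⟩
    by_cases hik : i = k
    · subst hik
      rw [L.A_comm hk hx]
      simp
    · have hxy : y * x * y⁻¹ ∈ L.A i :=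
        conj_mem_of_normalizer (normalizer_of_cj_eq (L.T0_fix_A hy0 i)) hx
      have hxy' : x * y⁻¹ * x⁻¹ ∈ L.A k :=
        conj_mem_of_normalizer (normalizer_of_cj_eq (L.T0_fix_A (L.A_le i hx) k)) (inv_mem hk)
      have h1 : y * x * y⁻¹ * x⁻¹ ∈ L.A i := mul_mem hxy (inv_mem hx)
      have h2 : y * x * y⁻¹ * x⁻¹ ∈ L.A k := by
        rw [show y * x * y⁻¹ * x⁻¹ = y * (x * y⁻¹ * x⁻¹) by group]
        exact mul_mem hk hxy'
      have h3 : y * x * y⁻¹ * x⁻¹ ∈ L.S :=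
        mul_mem (mul_mem (mul_mem hyS hxS) (inv_mem hyS)) (inv_mem hxS)
      fin_cases i <;> fin_cases k <;> first
        | exact absurd rfl hik
        | exact L.A_inf_S_le_W h1 h2 h3
        | exact L.A_inf_S_le_W h2 h1 h3
  obtain ⟨s, hs, v, hv, rfl⟩ := F.T0_decomp hg
  refine (D.mul_mem (hSD hs) ?_).2
  refine ⟨F.V_le_T0 hv, ?_⟩
  rw [F.V_comm hv (L.A_le i hx)]
  simp

/-- The orbit of `T₀` on a conjugate of `z` outside `W` is its coset of `W`. -/
theorem T0_orbit [Finite G] {i : Fin 2} {x : G} (hx : x ∈ L.A i) (hxS : x ∈ L.S)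
    (hxW : x ∉ L.W) {w : G} (hw : w ∈ L.W) : ∃ g ∈ L.T0, g * x * g⁻¹ = x * w := by
  have hstab : (L.T0 ⊓ Hc x : Subgroup G) = L.A i :=
    le_antisymm (fun g hg => L.A_cent i x hx hxS hxW g hg.1 (mem_Hc.1 hg.2))
      fun g hg => ⟨L.A_le i hg, mem_Hc.2 (L.A_comm hg hx)⟩
  have hcard := orbit_card L.T0 x
  rw [hstab, L.card_A, L.card_T0] at hcard
  let f : {y : G // ∃ g ∈ L.T0, g * x * g⁻¹ = y} → L.W := fun y => ⟨x⁻¹ * y.1, by
    obtain ⟨g, hg, e⟩ := y.2
    have h1 := F.comm_mem_W hx hxS hg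
    rw [e] at h1
    have e' : x⁻¹ * y.1 = y.1 * x⁻¹ := by
      have hyA : y.1 ∈ L.A i :=
        e ▸ conj_mem_of_normalizer (normalizer_of_cj_eq (L.T0_fix_A hg i)) hx
      exact L.A_comm (inv_mem hx) hyA
    rwa [e']⟩
  have hf : Function.Injective f := fun a b e =>
    Subtype.ext (mul_left_cancel (congrArg Subtype.val e))
  obtain ⟨⟨y, g, hg, e⟩, hy⟩ := (hf.bijective_of_nat_card_le (by rw [L.card_W]; omega)).2 ⟨w, hw⟩
  refine ⟨g, hg, ?_⟩
  have hy' : x⁻¹ * y = w := congrArg Subtype.val hy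
  rw [e, ← hy']
  group

end Frame

end CfsgLib.Small.SuzOrder
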