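import Cfsg.Agent.Lib.Small.SuzOrder.Interface
import Mathlib

/-!
The Sylow two-subgroup of the centraliser of `t`: the normaliser of `W`, an element of order three
in it, and the four-group `V` it centralises.
-/

set_option autoImplicit false
set_option linter.unusedSectionVars false
set_option linter.style.haveILetI false

namespace CfsgLib.Small.SuzOrder

open Subgroup

variable {G : Type*} [Group G]

/-- The centraliser of one element. -/
abbrev Hc (t : G) : Subgroup G := centralizer ({t} : Set G)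

theorem mem_Hc {t x : G} : x ∈ Hc t ↔ x * t = t * x := mem_centralizer_singleton_iff

theorem mem_Tz {z t x : G} : x ∈ Tz z t ↔ x * z = z * x ∧ x * t = t * x := by
  simp only [Tz, mem_inf, mem_centralizer_singleton_iff]

theorem conj_eq_iff {g x y : G} : g * x * g⁻¹ = y ↔ g * x = y * g := mul_inv_eq_iff_eq_mul

theorem conj_sq {x : G} (g : G) (h : x * x = 1) : g * x * g⁻¹ * (g * x * g⁻¹) = 1 := by
  calc g * x * g⁻¹ * (g * x * g⁻¹) = g * (x * x) * g⁻¹ := by group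
    _ = 1 := by rw [h]; group

/-- An element moving a finite subgroup into itself normalises it. -/
theorem mem_normalizer_of_conj [Finite G] {H : Subgroup G} {g : G}
    (h : ∀ x ∈ H, g * x * g⁻¹ ∈ H) : g ∈ normalizer (H : Set G) := by
  have he : H.map (MulAut.conj g).toMonoidHom = H := by
    refine eq_of_le_of_card_ge ?_ (card_map_of_injective (MulAut.conj g).injective).ge
    rintro _ ⟨x, hx, rfl⟩
    exact h x hx
  refine mem_normalizer_iff.2 fun x => ⟨h x, fun hx => ?_⟩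
  have hx' : g * x * g⁻¹ ∈ H.map (MulAut.conj g).toMonoidHom := he.symm ▸ hx
  obtain ⟨y, hy, e⟩ := hx'
  have : y = x := (MulAut.conj g).injective e
  exact this ▸ hy

theorem conj_mem_of_normalizer {H : Subgroup G} {g x : G} (hg : g ∈ normalizer (H : Set G))
    (hx : x ∈ H) : g * x * g⁻¹ ∈ H := (mem_normalizer_iff.1 hg x).1 hx

theorem two_group_order [Finite G] {H : Subgroup G} {n : ℕ} (h : Nat.card H = 2 ^ n) {x : G}
    (hx : x ∈ H) : x ^ (2 ^ n) = 1 := by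
  have := pow_card_eq_one' (x := (⟨x, hx⟩ : H))
  rw [h] at this
  exact congrArg Subtype.val this

namespace LocData

variable {z t : G} (L : LocData z t)
include L

theorem zz : z * z = 1 := by
  have h := pow_orderOf_eq_one z
  rwa [L.ord_z, sq] at h

theorem tt : t * t = 1 := by
  have h := pow_orderOf_eq_one t
  rwa [L.ord_t, sq] at h

theorem z_ne : z ≠ 1 := fun h => by
  have h2 := L.ord_z; rw [h, orderOf_one] at h2; omega

theorem t_ne : t ≠ 1 := fun h => by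
  have h2 := L.ord_t; rw [h, orderOf_one] at h2; omega

theorem z_mem_T : z ∈ Tz z t := mem_Tz.2 ⟨rfl, L.comm⟩

theorem t_mem_T : t ∈ Tz z t := mem_Tz.2 ⟨L.comm.symm, rfl⟩

theorem z_mem_H : z ∈ Hc t := mem_Hc.2 L.comm

omit L in
theorem T_le_H : Tz z t ≤ Hc t := inf_le_right

theorem mem_S_of_type {x : G} (hx : x ∈ Tz z t) (h : IsConj z x) : x ∈ L.S := by
  rw [L.S_eq]; exact subset_closure ⟨hx, h⟩

theorem T0_le : L.T0 ≤ Tz z t := fun x hx => ((L.T0_eq x).1 hx).1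

theorem S_le_T : L.S ≤ Tz z t := L.S_le.trans L.T0_le

theorem W_le_S : L.W ≤ L.S := fun x hx => ((L.W_eq x).1 hx).1

theorem z_mem_S : z ∈ L.S := L.mem_S_of_type L.z_mem_T (IsConj.refl z)

theorem z_mem_W : z ∈ L.W :=
  (L.W_eq z).2 ⟨L.z_mem_S, fun y hy => ((mem_Tz.1 (L.S_le_T hy)).1).symm⟩

theorem t_not_S : t ∉ L.S := fun h => by
  rcases L.invol_S t h L.tt with h1 | h1
  · exact L.t_ne h1
  · exact L.not_conj h1

theorem W_type {w : G} (hw : w ∈ L.W) (h1 : w ≠ 1) : IsConj z w :=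
  (L.invol_S w (L.W_le_S hw) (L.sq_W w hw)).resolve_left h1

theorem W_comm_T0 {w x : G} (hw : w ∈ L.W) (hx : x ∈ L.T0) : x * w = w * x :=
  ((L.T0_eq x).1 hx).2 w hw

theorem W_le_T0 : L.W ≤ L.T0 := L.W_le_S.trans L.S_le

theorem W_le_Z0 : L.W ≤ L.Z0 := fun w hw =>
  (L.Z0_eq w).2 ⟨L.W_le_T0 hw, fun _y hy => (L.W_comm_T0 hw hy).symm⟩

theorem Z0_le : L.Z0 ≤ L.T0 := fun x hx => ((L.Z0_eq x).1 hx).1

theorem Z0_cent {x y : G} (hx : x ∈ L.Z0) (hy : y ∈ L.T0) : x * y = y * x :=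
  ((L.Z0_eq x).1 hx).2 y hy

theorem Z0_inf_S {x : G} (hx : x ∈ L.Z0) (hS : x ∈ L.S) : x ∈ L.W :=
  (L.W_eq x).2 ⟨hS, fun _y hy => L.Z0_cent hx (L.S_le hy)⟩

theorem t_mem_T0 : t ∈ L.T0 := (L.T0_eq t).2 ⟨L.t_mem_T, fun w hw =>
  ((mem_Tz.1 (L.S_le_T (L.W_le_S hw))).2).symm⟩

theorem t_mem_Z0 : t ∈ L.Z0 :=
  (L.Z0_eq t).2 ⟨L.t_mem_T0, fun _y hy => ((mem_Tz.1 (L.T0_le hy)).2).symm⟩

/-- The normaliser of `W` in the centraliser of `t`. -/
def Nw : Subgroup G := Hc t ⊓ normalizer (L.W : Set G)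

theorem S_move [Finite G] {h : G} (hh : h ∈ Hc t) (hz : h * z * h⁻¹ ∈ L.W) :
    h ∈ normalizer (L.S : Set G) := by
  suffices hs : h⁻¹ ∈ normalizer (L.S : Set G) by simpa using inv_mem hs
  refine mem_normalizer_of_conj fun x hx => ?_
  rw [inv_inv]
  suffices hle : L.S ≤ L.S.comap (MulAut.conj h⁻¹).toMonoidHom by
    have h1 : (MulAut.conj h⁻¹) x ∈ L.S := hle hx
    rwa [MulAut.conj_apply, inv_inv] at h1
  rw [L.S_eq]
  refine (closure_le _).2 fun s hs => ?_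
  show (MulAut.conj h⁻¹) s ∈ Subgroup.closure _
  rw [MulAut.conj_apply, inv_inv]
  have hsS : s ∈ L.S := by rw [L.S_eq]; exact subset_closure hs
  have hc : s * (h * z * h⁻¹) = h * z * h⁻¹ * s := (((L.W_eq _).1 hz).2 s hsS).symm
  refine subset_closure ⟨mem_Tz.2 ⟨?_, mem_Hc.1 ?_⟩, hs.2.trans (isConj_iff.2 ⟨h⁻¹, by group⟩)⟩
  · calc h⁻¹ * s * h * z = h⁻¹ * (s * (h * z * h⁻¹)) * h := by group
      _ = h⁻¹ * (h * z * h⁻¹ * s) * h := by rw [hc]
      _ = z * (h⁻¹ * s * h) := by group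
  · exact mul_mem (mul_mem (inv_mem hh) hs.1.2) hh

theorem mem_Nw_of_conj [Finite G] {h : G} (hh : h ∈ Hc t) (hz : h * z * h⁻¹ ∈ L.W) :
    h ∈ L.Nw := by
  have hS := L.S_move hh hz
  refine ⟨hh, mem_normalizer_of_conj fun w hw => (L.W_eq _).2
    ⟨conj_mem_of_normalizer hS (L.W_le_S hw), fun y hy => ?_⟩⟩
  have hy' : h⁻¹ * y * h ∈ L.S := by
    have h1 := conj_mem_of_normalizer (inv_mem hS) hy
    rwa [inv_inv] at h1
  calc h * w * h⁻¹ * y = h * (w * (h⁻¹ * y * h)) * h⁻¹ := by group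
    _ = h * (h⁻¹ * y * h * w) * h⁻¹ := by rw [((L.W_eq w).1 hw).2 _ hy']
    _ = y * (h * w * h⁻¹) := by group

theorem Nw_le_H : L.Nw ≤ Hc t := inf_le_left

theorem Nw_W {g : G} (hg : g ∈ L.Nw) : g ∈ normalizer (L.W : Set G) := hg.2

theorem T_le_Nw [Finite G] : Tz z t ≤ L.Nw := fun y hy => by
  refine L.mem_Nw_of_conj (mem_Hc.2 (mem_Tz.1 hy).2) ?_
  rw [conj_eq_iff.2 (mem_Tz.1 hy).1]
  exact L.z_mem_W

theorem Nw_S [Finite G] {g : G} (hg : g ∈ L.Nw) : g ∈ normalizer (L.S : Set G) :=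
  L.S_move hg.1 (conj_mem_of_normalizer hg.2 L.z_mem_W)

theorem Nw_T0 [Finite G] {g : G} (hg : g ∈ L.Nw) : g ∈ normalizer (L.T0 : Set G) := by
  refine mem_normalizer_of_conj fun x hx => (L.T0_eq _).2 ?_
  have hc : ∀ w ∈ L.W, g * x * g⁻¹ * w = w * (g * x * g⁻¹) := by
    intro w hw
    have hw' : g⁻¹ * w * g ∈ L.W := by
      have h1 := conj_mem_of_normalizer (inv_mem hg.2) hw
      rwa [inv_inv] at h1
    calc g * x * g⁻¹ * w = g * (x * (g⁻¹ * w * g)) * g⁻¹ := by group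
      _ = g * (g⁻¹ * w * g * x) * g⁻¹ := by rw [L.W_comm_T0 hw' hx]
      _ = w * (g * x * g⁻¹) := by group
  refine ⟨mem_Tz.2 ⟨hc z L.z_mem_W, mem_Hc.1 ?_⟩, hc⟩
  exact mul_mem (mul_mem hg.1 (mem_Hc.2 (mem_Tz.1 (L.T0_le hx)).2)) (inv_mem hg.1)

theorem Nw_Z0 [Finite G] {g : G} (hg : g ∈ L.Nw) : g ∈ normalizer (L.Z0 : Set G) := by
  refine mem_normalizer_of_conj fun x hx => (L.Z0_eq _).2
    ⟨conj_mem_of_normalizer (L.Nw_T0 hg) (L.Z0_le hx), fun y hy => ?_⟩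
  have hy' : g⁻¹ * y * g ∈ L.T0 := by
    have h1 := conj_mem_of_normalizer (inv_mem (L.Nw_T0 hg)) hy
    rwa [inv_inv] at h1
  calc g * x * g⁻¹ * y = g * (x * (g⁻¹ * y * g)) * g⁻¹ := by group
    _ = g * (g⁻¹ * y * g * x) * g⁻¹ := by rw [L.Z0_cent hx hy']
    _ = y * (g * x * g⁻¹) := by group

theorem exists_outer [Finite G] : ∃ y ∈ Tz z t, y ∉ L.T0 := by
  by_contra h
  push Not at h
  have := card_le_of_le (h : Tz z t ≤ L.T0)
  rw [L.card_T, L.card_T0] at this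
  omega

theorem W_four {a : G} (ha : a ∈ L.W) (ha1 : a ≠ 1) (haz : a ≠ z) {w : G} (hw : w ∈ L.W) :
    w = 1 ∨ w = z ∨ w = a ∨ w = z * a := by
  classical
  haveI : Finite L.W := Nat.finite_of_card_ne_zero (by rw [L.card_W]; norm_num)
  let m : Fin 4 → L.W := ![1, ⟨z, L.z_mem_W⟩, ⟨a, ha⟩, ⟨z, L.z_mem_W⟩ * ⟨a, ha⟩]
  have hz1 := L.z_ne
  have hza1 : z * a ≠ 1 := fun e => haz (by
    rw [← inv_eq_of_mul_eq_one_right e]; exact inv_eq_of_mul_eq_one_right L.zz)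
  have hzaz : z * a ≠ z := fun e => ha1 (mul_eq_left.1 e)
  have hzaa : z * a ≠ a := fun e => hz1 (mul_eq_right.1 e)
  have hm : Function.Injective m := by
    intro i j e
    have e' := congrArg Subtype.val e
    fin_cases i <;> fin_cases j <;> first
      | rfl
      | simp [m, hz1, hz1.symm, ha1, ha1.symm, haz, haz.symm, hza1, hza1.symm, hzaz, hzaz.symm,
          hzaa, hzaa.symm] at e'
  obtain ⟨i, hi⟩ := (hm.bijective_of_nat_card_le (by rw [L.card_W]; simp)).2 ⟨w, hw⟩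
  have e' := congrArg Subtype.val hi
  fin_cases i <;> simp [m] at e' <;> simp [← e']

theorem exists_rho [Finite G] : ∃ r : G, r ^ 3 = 1 ∧ r ∈ L.Nw ∧
    ∀ w ∈ L.W, r * w * r⁻¹ = w → w = 1 := by
  obtain ⟨y, hy, hy0⟩ := L.exists_outer
  have hyW := L.Nw_W (L.T_le_Nw hy)
  have hyz : y * z * y⁻¹ = z := conj_eq_iff.2 (mem_Tz.1 hy).1
  obtain ⟨a, ha, hya⟩ : ∃ a ∈ L.W, y * a * y⁻¹ ≠ a := by
    by_contra h
    push Not at h
    exact hy0 ((L.T0_eq y).2 ⟨hy, fun w hw => conj_eq_iff.1 (h w hw)⟩)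
  have ha1 : a ≠ 1 := fun e => hya (by rw [e]; group)
  have haz : a ≠ z := fun e => hya (by rw [e, hyz])
  have hcomm : a * z = z * a := L.W_comm_T0 L.z_mem_W (L.W_le_T0 ha)
  have hyaza : y * a * y⁻¹ = z * a := by
    rcases L.W_four ha ha1 haz (conj_mem_of_normalizer hyW ha) with h | h | h | h
    · exact absurd (conj_eq_one_iff.1 h) ha1
    · exact absurd ((MulAut.conj y).injective (h.trans hyz.symm)) haz
    · exact absurd h hya
    · exact h
  obtain ⟨h, hht, hza⟩ := L.pair_conj a (L.W_type ha ha1)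
    (mem_Tz.1 (L.T0_le (L.W_le_T0 ha))).2
  have hhN : h ∈ L.Nw := L.mem_Nw_of_conj (mem_Hc.2 hht) (hza ▸ ha)
  obtain ⟨r, hrN, hrz, hra⟩ : ∃ r ∈ L.Nw, r * z * r⁻¹ = a ∧ r * a * r⁻¹ = z * a := by
    rcases L.W_four ha ha1 haz (conj_mem_of_normalizer hhN.2 ha) with e | e | e | e
    · exact absurd (conj_eq_one_iff.1 e) ha1
    · refine ⟨h * y, mul_mem hhN (L.T_le_Nw hy), ?_, ?_⟩
      · calc h * y * z * (h * y)⁻¹ = h * (y * z * y⁻¹) * h⁻¹ := by group
          _ = a := by rw [hyz, hza]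
      · calc h * y * a * (h * y)⁻¹ = h * (y * a * y⁻¹) * h⁻¹ := by group
          _ = (h * z * h⁻¹) * (h * a * h⁻¹) := by rw [hyaza]; group
          _ = z * a := by rw [hza, e, hcomm]
    · exact absurd ((MulAut.conj h).injective (e.trans hza.symm)) haz
    · exact ⟨h, hhN, hza, e⟩
  have hrza : r * (z * a) * r⁻¹ = z := by
    calc r * (z * a) * r⁻¹ = (r * z * r⁻¹) * (r * a * r⁻¹) := by group
      _ = a * (z * a) := by rw [hrz, hra]
      _ = z * (a * a) := by rw [← mul_assoc, hcomm, mul_assoc]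
      _ = z := by rw [L.sq_W a ha, mul_one]
  have h3z : r ^ 3 * z = z * r ^ 3 := conj_eq_iff.1 (by
    calc r ^ 3 * z * (r ^ 3)⁻¹ = r * (r * (r * z * r⁻¹) * r⁻¹) * r⁻¹ := by
          simp only [pow_succ, pow_zero, one_mul, mul_inv_rev, mul_assoc]
      _ = z := by rw [hrz, hra, hrza])
  have h3a : r ^ 3 * a = a * r ^ 3 := conj_eq_iff.1 (by
    calc r ^ 3 * a * (r ^ 3)⁻¹ = r * (r * (r * a * r⁻¹) * r⁻¹) * r⁻¹ := by
          simp only [pow_succ, pow_zero, one_mul, mul_inv_rev, mul_assoc]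
      _ = a := by rw [hra, hrza, hrz])
  have h30 : r ^ 3 ∈ L.T0 := by
    refine (L.T0_eq _).2 ⟨mem_Tz.2 ⟨h3z, mem_Hc.1 (pow_mem hrN.1 3)⟩, fun w hw => ?_⟩
    rcases L.W_four ha ha1 haz hw with e | e | e | e <;> rw [e]
    · simp
    · exact h3z
    · exact h3a
    · rw [← mul_assoc, h3z, mul_assoc, h3a, mul_assoc]
  have hp : (r ^ 3) ^ 256 = 1 :=
    two_group_order (n := 8) (by rw [L.card_T0]; norm_num) h30
  have hcy : ∀ w : G, r ^ 3 * w = w * r ^ 3 → r ^ 256 * w * (r ^ 256)⁻¹ = r * w * r⁻¹ := by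
    intro w hw
    have h1 : (r ^ 3) ^ 85 * w = w * (r ^ 3) ^ 85 :=
      ((show Commute (r ^ 3) w from hw).pow_left 85).eq
    have h2 : r ^ 256 = r * (r ^ 3) ^ 85 := by group
    rw [h2]
    calc r * (r ^ 3) ^ 85 * w * (r * (r ^ 3) ^ 85)⁻¹
        = r * ((r ^ 3) ^ 85 * w * ((r ^ 3) ^ 85)⁻¹) * r⁻¹ := by group
      _ = r * w * r⁻¹ := by rw [conj_eq_iff.2 h1]
  refine ⟨r ^ 256, ?_, pow_mem hrN 256, fun w hw hfix => ?_⟩
  · rw [← pow_mul, show 256 * 3 = 3 * 256 by norm_num, pow_mul, hp]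
  rcases L.W_four ha ha1 haz hw with rfl | rfl | rfl | rfl
  · rfl
  · rw [hcy w h3z, hrz] at hfix; exact absurd hfix haz
  · rw [hcy w h3a, hra] at hfix; exact absurd (mul_eq_right.1 hfix) L.z_ne
  · rw [hcy _ (by rw [← mul_assoc, h3z, mul_assoc, h3a, mul_assoc]), hrza] at hfix
    exact absurd (mul_eq_left.1 hfix.symm) ha1

end LocData

/-- A chosen element of order three normalising `W` without fixed points. -/
structure Frame {z t : G} (L : LocData z t) where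
  r : G
  r_pow : r ^ 3 = 1
  r_mem : r ∈ L.Nw
  r_fpf : ∀ w ∈ L.W, r * w * r⁻¹ = w → w = 1

theorem LocData.exists_frame [Finite G] {z t : G} (L : LocData z t) : Nonempty (Frame L) := by
  obtain ⟨r, h1, h2, h3⟩ := L.exists_rho
  exact ⟨⟨r, h1, h2, h3⟩⟩

namespace Frame

variable {z t : G} {L : LocData z t} (F : Frame L)
include F

/-- The four-group centralised by the chosen element. -/
def V : Subgroup G := L.Z0 ⊓ Hc F.r

theorem V_le_Z0 : F.V ≤ L.Z0 := inf_le_left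

theorem V_le_T0 : F.V ≤ L.T0 := F.V_le_Z0.trans L.Z0_le

theorem V_sq {v : G} (hv : v ∈ F.V) : v * v = 1 := L.sq_Z0 v (F.V_le_Z0 hv)

theorem V_comm_r {v : G} (hv : v ∈ F.V) : v * F.r = F.r * v := mem_Hc.1 hv.2

theorem V_inf_S {v : G} (hv : v ∈ F.V) (hS : v ∈ L.S) : v = 1 :=
  F.r_fpf v (L.Z0_inf_S (F.V_le_Z0 hv) hS) (conj_eq_iff.2 (F.V_comm_r hv).symm)

theorem t_mem_V : t ∈ F.V :=
  ⟨L.t_mem_Z0, mem_Hc.2 (mem_Hc.1 (L.Nw_le_H F.r_mem)).symm⟩

theorem card_V [Finite G] : Nat.card F.V = 4 := by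
  classical
  haveI : Fact (Nat.Prime 3) := ⟨Nat.prime_three⟩
  set P := zpowers F.r
  have hPN : P ≤ normalizer (L.Z0 : Set G) := zpowers_le.2 (L.Nw_Z0 F.r_mem)
  letI : MulAction P L.Z0 := MulAction.compHom _
    ((normalizerMonoidHom L.Z0).comp (inclusion hPN))
  have hsm : ∀ (p : P) (x : L.Z0), ((p • x : L.Z0) : G) = p * x * (p : G)⁻¹ := fun p x => rfl
  have hP : IsPGroup 3 P := fun p => ⟨1, by
    obtain ⟨k, hk⟩ := mem_zpowers_iff.1 p.2
    refine Subtype.ext ?_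
    simp only [pow_one, SubgroupClass.coe_pow, ← hk, OneMemClass.coe_one]
    rw [← zpow_natCast, ← zpow_mul, mul_comm, zpow_mul, zpow_natCast, F.r_pow, one_zpow]⟩
  have hmod := hP.card_modEq_card_fixedPoints L.Z0
  have hfix : Nat.card (MulAction.fixedPoints P L.Z0) = Nat.card F.V := by
    refine Nat.card_congr
      { toFun := fun x => ⟨((x : L.Z0) : G), (x : L.Z0).2, mem_Hc.2 ?_⟩
        invFun := fun v => ⟨⟨v, F.V_le_Z0 v.2⟩, fun p => Subtype.ext ?_⟩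
        left_inv := fun _ => rfl
        right_inv := fun _ => rfl }
    · have h := congrArg Subtype.val (x.2 ⟨F.r, mem_zpowers F.r⟩)
      rw [hsm] at h
      exact (conj_eq_iff.1 h).symm
    · rw [hsm]
      obtain ⟨k, hk⟩ := mem_zpowers_iff.1 p.2
      refine conj_eq_iff.2 ?_
      rw [← hk]
      exact ((show Commute F.r (v : G) from (F.V_comm_r v.2).symm).zpow_left k).eq
  rw [L.card_Z0, hfix] at hmod
  have hdvd : Nat.card F.V ∣ 16 := L.card_Z0 ▸ card_dvd_of_le F.V_le_Z0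
  have h1 : Nat.card F.V ≠ 1 := fun h =>
    L.t_ne (mem_bot.1 (eq_bot_of_card_eq _ h ▸ F.t_mem_V))
  have h16 : Nat.card F.V ≠ 16 := fun h => by
    have he := eq_of_le_of_card_ge F.V_le_Z0 (by rw [h, L.card_Z0])
    exact L.z_ne (F.V_inf_S (he ▸ L.W_le_Z0 L.z_mem_W) L.z_mem_S)
  have hle : Nat.card F.V ≤ 16 := Nat.le_of_dvd (by norm_num) hdvd
  obtain ⟨c, hc⟩ := hdvd
  have := Nat.ModEq.symm hmod
  unfold Nat.ModEq at this
  interval_cases h : Nat.card F.V <;> omega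

theorem V_type {v : G} (hv : v ∈ F.V) (h1 : v ≠ 1) : IsConj t v := by
  have ho : orderOf v = 2 := orderOf_eq_prime (by rw [sq]; exact F.V_sq hv) h1
  exact (L.two v ho).resolve_left fun h =>
    h1 (F.V_inf_S hv (L.mem_S_of_type (L.T0_le (F.V_le_T0 hv)) h))

theorem V_comm {v x : G} (hv : v ∈ F.V) (hx : x ∈ L.T0) : v * x = x * v :=
  L.Z0_cent (F.V_le_Z0 hv) hx

theorem T0_decomp [Finite G] {x : G} (hx : x ∈ L.T0) : ∃ s ∈ L.S, ∃ v ∈ F.V, x = s * v := by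
  let m : L.S × F.V → L.T0 := fun p =>
    ⟨(p.1 : G) * (p.2 : G), mul_mem (L.S_le p.1.2) (F.V_le_T0 p.2.2)⟩
  have hm : Function.Injective m := by
    rintro ⟨a, b⟩ ⟨c, d⟩ e
    have e' : (a : G) * b = c * d := congrArg Subtype.val e
    have h1 : (c : G)⁻¹ * a = d * (b : G)⁻¹ := by
      rw [inv_mul_eq_iff_eq_mul, ← mul_assoc, eq_mul_inv_iff_mul_eq, e']
    have h2 : (d : G) * (b : G)⁻¹ = 1 :=
      F.V_inf_S (mul_mem d.2 (inv_mem b.2)) (h1 ▸ mul_mem (inv_mem c.2) a.2)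
    have hdb : d = b := Subtype.ext (mul_inv_eq_one.1 h2)
    rw [hdb] at e'
    exact Prod.ext (Subtype.ext (mul_right_cancel e')) hdb.symm
  obtain ⟨⟨s, v⟩, hsv⟩ := (hm.bijective_of_nat_card_le (by
    rw [Nat.card_prod, L.card_S, F.card_V, L.card_T0])).2 ⟨x, hx⟩
  exact ⟨s, s.2, v, v.2, (congrArg Subtype.val hsv).symm⟩

end Frame

end CfsgLib.Small.SuzOrder
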