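import Cfsg.Agent.Lib.Small.SuzOrder.Four.Base

/-!
The normaliser of an elementary subgroup of order `2 ^ 6`: it centralises `V` and is transitive on
the conjugates of `z` in the subgroup.
-/

set_option autoImplicit false
set_option linter.unusedSectionVars false
set_option linter.style.haveILetI false

namespace CfsgLib.Small.SuzOrder

open Subgroup

variable {G : Type*} [Group G]

/-- Orbit–stabiliser for conjugation by a subgroup. -/
theorem orbit_card [Finite G] (N : Subgroup G) (x : G) :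
    Nat.card {y : G // ∃ g ∈ N, g * x * g⁻¹ = y} * Nat.card (N ⊓ Hc x : Subgroup G) =
      Nat.card N := by
  let f : N → {y : G // ∃ g ∈ N, g * x * g⁻¹ = y} := fun g => ⟨_, g, g.2, rfl⟩
  have hf : ∀ a b : N, f a = f b ↔
      (a⁻¹ * b : N) ∈ ((N ⊓ Hc x : Subgroup G).subgroupOf N) := by
    intro a b
    rw [mem_subgroupOf]
    refine ⟨fun h => ⟨(a⁻¹ * b).2, mem_Hc.2 (conj_eq_iff.1 ?_)⟩, fun h => Subtype.ext ?_⟩
    · have e : (a : G) * x * (a : G)⁻¹ = (b : G) * x * (b : G)⁻¹ := congrArg Subtype.val h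
      push_cast
      calc (a : G)⁻¹ * b * x * ((a : G)⁻¹ * b)⁻¹ = (a : G)⁻¹ * (b * x * (b : G)⁻¹) * a := by group
        _ = x := by rw [← e]; group
    · have e := conj_eq_iff.2 (mem_Hc.1 h.2)
      push_cast at e
      show (a : G) * x * (a : G)⁻¹ = (b : G) * x * (b : G)⁻¹
      calc (a : G) * x * (a : G)⁻¹
          = (a : G) * ((a : G)⁻¹ * b * x * ((a : G)⁻¹ * b)⁻¹) * (a : G)⁻¹ := by rw [e]
        _ = _ := by group
  let e : (N ⧸ (N ⊓ Hc x : Subgroup G).subgroupOf N) → {y : G // ∃ g ∈ N, g * x * g⁻¹ = y} :=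
    Quotient.lift f fun a b h => (hf a b).2 (QuotientGroup.leftRel_apply.1 h)
  have he : Function.Bijective e := by
    refine ⟨fun p q h => ?_, fun y => ?_⟩
    · induction p using QuotientGroup.induction_on with
      | H a =>
        induction q using QuotientGroup.induction_on with
        | H b => exact QuotientGroup.eq.2 ((hf a b).1 h)
    · obtain ⟨g, hg, hy⟩ := y.2
      exact ⟨QuotientGroup.mk ⟨g, hg⟩, Subtype.ext hy⟩
  rw [← Nat.card_congr (Equiv.ofBijective e he), ← index_eq_card,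
    ← Nat.card_congr (subgroupOfEquivOfLe (inf_le_left : N ⊓ Hc x ≤ N)).toEquiv, index_mul_card]

/-- The image of a subgroup under conjugation. -/
abbrev cj (g : G) (H : Subgroup G) : Subgroup G := H.map (MulAut.conj g).toMonoidHom

theorem mem_cj {g x : G} {H : Subgroup G} : x ∈ cj g H ↔ g⁻¹ * x * g ∈ H := by
  constructor
  · rintro ⟨y, hy, rfl⟩
    simpa [MulAut.conj_apply, mul_assoc] using hy
  · exact fun h => ⟨_, h, by simp [MulAut.conj_apply, mul_assoc]⟩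

theorem conj_mem_cj {g x : G} {H : Subgroup G} (h : x ∈ H) : g * x * g⁻¹ ∈ cj g H := ⟨x, h, rfl⟩

theorem card_cj (g : G) (H : Subgroup G) : Nat.card (cj g H) = Nat.card H :=
  card_map_of_injective (MulAut.conj g).injective

theorem cj_mul (g h : G) (H : Subgroup G) : cj (g * h) H = cj g (cj h H) := by
  ext x
  simp only [mem_cj, mul_inv_rev, mul_assoc]

theorem cj_one (H : Subgroup G) : cj 1 H = H := by ext x; simp [mem_cj]

theorem cj_eq_of_normalizer {g : G} {H : Subgroup G} (hg : g ∈ normalizer (H : Set G)) :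
    cj g H = H := by
  ext x
  rw [mem_cj]
  have h := mem_normalizer_iff.1 (inv_mem hg) x
  rw [inv_inv] at h
  exact h.symm

theorem normalizer_of_cj_eq [Finite G] {g : G} {H : Subgroup G} (h : cj g H = H) :
    g ∈ normalizer (H : Set G) :=
  mem_normalizer_of_conj fun _x hx => h ▸ conj_mem_cj hx

theorem fin2_eq : ∀ {i k m : Fin 2}, k ≠ i → m ≠ k → m = i := by decide

namespace LocData

variable {z t : G} (L : LocData z t)
include L

theorem A_le_T (i : Fin 2) : L.A i ≤ Tz z t := (L.A_le i).trans L.T0_le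

theorem A_comm {i : Fin 2} {x y : G} (hx : x ∈ L.A i) (hy : y ∈ L.A i) : x * y = y * x := by
  have hi : ∀ a ∈ L.A i, a⁻¹ = a := fun a ha => inv_eq_of_mul_eq_one_right (L.A_sq i a ha)
  calc x * y = (x * y)⁻¹ := (hi _ (mul_mem hx hy)).symm
    _ = y⁻¹ * x⁻¹ := mul_inv_rev x y
    _ = y * x := by rw [hi x hx, hi y hy]

theorem exists_AS_not_W [Finite G] (i : Fin 2) : ∃ x ∈ L.A i, x ∈ L.S ∧ x ∉ L.W := by
  by_contra h
  push Not at h
  have := card_le_of_le (show L.A i ⊓ L.S ≤ L.W from fun x hx => h x hx.1 hx.2)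
  rw [L.card_AS i, L.card_W] at this
  omega

theorem Z0_le_A [Finite G] (i : Fin 2) : L.Z0 ≤ L.A i := fun x hx => by
  obtain ⟨a, ha, haS, haW⟩ := L.exists_AS_not_W i
  exact L.A_cent i a ha haS haW x (L.Z0_le hx) (L.Z0_cent hx (L.A_le i ha))

theorem cj_A [Finite G] {h : G} (hh : h ∈ Hc t) (i : Fin 2)
    (hc : ∀ x ∈ L.A i, (h * x * h⁻¹) * z = z * (h * x * h⁻¹)) :
    cj h (L.A i) = L.A 0 ∨ cj h (L.A i) = L.A 1 := by
  refine L.A_max _ ?_ (by rw [card_cj, L.card_A]) ?_ <;> rintro _ ⟨x, hx, rfl⟩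
  · exact mem_Tz.2 ⟨hc x hx,
      mem_Hc.1 (mul_mem (mul_mem hh (L.A_le_T i hx).2) (inv_mem hh))⟩
  · exact conj_sq h (L.A_sq i x hx)

theorem Nw_A [Finite G] {g : G} (hg : g ∈ L.Nw) (i : Fin 2) : ∃ k, cj g (L.A i) = L.A k := by
  rcases L.cj_A hg.1 i (fun x hx => (mem_Tz.1 (L.T0_le
    (conj_mem_of_normalizer (L.Nw_T0 hg) (L.A_le i hx)))).1) with h | h
  · exact ⟨0, h⟩
  · exact ⟨1, h⟩

theorem cj_A_inj [Finite G] {g : G} {i k : Fin 2} (h : cj g (L.A i) = cj g (L.A k)) : i = k := by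
  have := Subgroup.map_injective (f := (MulAut.conj g).toMonoidHom) (MulAut.conj g).injective h
  fin_cases i <;> fin_cases k <;> first | rfl | exact absurd this L.A_ne |
    exact absurd this.symm L.A_ne

theorem T_moves [Finite G] {y : G} (hy : y ∈ Tz z t) (hy0 : y ∉ L.T0) (i : Fin 2) :
    cj y (L.A i) ≠ L.A i := by
  have h01 : cj y (L.A 0) = L.A 1 := by
    refine eq_of_le_of_card_ge ?_ (by rw [card_cj, L.card_A, L.card_A])
    rintro _ ⟨x, hx, rfl⟩
    exact L.A_swap y hy hy0 x hx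
  fin_cases i
  · exact fun h => L.A_ne (h.symm.trans h01)
  · intro h
    exact absurd (L.cj_A_inj (h01.trans h.symm)) (by decide)

theorem T0_fix_A [Finite G] {g : G} (hg : g ∈ L.T0) (i : Fin 2) : cj g (L.A i) = L.A i := by
  obtain ⟨y, hy, hy0⟩ := L.exists_outer
  obtain ⟨k, hk⟩ := L.Nw_A (L.T_le_Nw (L.T0_le hg)) i
  by_contra hne
  have hki : k ≠ i := fun e => hne (e ▸ hk)
  obtain ⟨m, hm⟩ := L.Nw_A (L.T_le_Nw hy) k
  have hmi : m = i := by
    have : m ≠ k := fun e => L.T_moves hy hy0 k (e ▸ hm)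
    exact fin2_eq hki this
  refine L.T_moves (mul_mem hy (L.T0_le hg)) (fun h => hy0 ?_) i ?_
  · simpa using mul_mem h (inv_mem hg)
  · rw [cj_mul, hk, hm, hmi]

/-- Only elements of `T₀` among the elements of `N(W)` of two-power order fix one of the
elementary subgroups. -/
theorem mem_T0_of_sq [Finite G] {g : G} (hg : g ∈ L.Nw) (h2 : g * g ∈ L.T0) {i : Fin 2}
    (hi : cj g (L.A i) = L.A i) : g ∈ L.T0 := by
  have key : ∀ w ∈ L.W, w ≠ 1 → g * w * g⁻¹ = w → g ∈ L.T0 := by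
    intro w hw hw1 hfix
    obtain ⟨h, hht, hzw⟩ := L.pair_conj w (L.W_type hw hw1)
      (mem_Tz.1 (L.T0_le (L.W_le_T0 hw))).2
    have hh : h ∈ L.Nw := L.mem_Nw_of_conj (mem_Hc.2 hht) (hzw ▸ hw)
    have hgT : h⁻¹ * g * h ∈ Tz z t := by
      refine mem_Tz.2 ⟨?_, mem_Hc.1 (mul_mem (mul_mem (inv_mem hh.1) hg.1) hh.1)⟩
      have e := conj_eq_iff.1 hfix
      rw [← hzw] at e
      calc h⁻¹ * g * h * z = h⁻¹ * (g * (h * z * h⁻¹)) * h := by group
        _ = h⁻¹ * (h * z * h⁻¹ * g) * h := by rw [e]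
        _ = z * (h⁻¹ * g * h) := by group
    obtain ⟨k, hk⟩ := L.Nw_A (inv_mem hh) i
    by_contra hg0
    refine L.T_moves hgT (fun h0 => hg0 ?_) k ?_
    · have := conj_mem_of_normalizer (L.Nw_T0 hh) h0
      simpa [mul_assoc] using this
    · have hk' : cj h (L.A k) = L.A i := by rw [← hk, ← cj_mul, mul_inv_cancel, cj_one]
      rw [cj_mul, hk', cj_mul, hi, hk]
  by_cases hz : g * z * g⁻¹ = z
  · exact key z L.z_mem_W L.z_ne hz
  have haW := conj_mem_of_normalizer hg.2 L.z_mem_W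
  set a := g * z * g⁻¹ with had
  have hga : g * a * g⁻¹ = z := by
    have e : g * g * z = z * (g * g) := L.W_comm_T0 L.z_mem_W h2
    calc g * (g * z * g⁻¹) * g⁻¹ = g * g * z * (g * g)⁻¹ := by group
      _ = z := conj_eq_iff.2 e
  have hza : z * a = a * z := (L.W_comm_T0 L.z_mem_W (L.W_le_T0 haW)).symm
  refine key (z * a) (mul_mem L.z_mem_W haW) (fun e => hz ?_) ?_
  · rw [← inv_eq_of_mul_eq_one_right e, L.zz |> inv_eq_of_mul_eq_one_right]
  · calc g * (z * a) * g⁻¹ = (g * z * g⁻¹) * (g * a * g⁻¹) := by group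
      _ = a * z := by rw [hga]
      _ = z * a := hza.symm

theorem mem_T0_of_pow [Finite G] {g : G} (hg : g ∈ L.Nw) {i : Fin 2}
    (hi : cj g (L.A i) = L.A i) : ∀ n, g ^ (2 ^ n) ∈ L.T0 → g ∈ L.T0 := by
  intro n
  induction n with
  | zero => simp
  | succ n ih =>
    intro h
    refine ih (L.mem_T0_of_sq (pow_mem hg _) ?_ (i := i) ?_)
    · rwa [← pow_add, ← two_mul, ← pow_succ']
    · exact cj_eq_of_normalizer (pow_mem (normalizer_of_cj_eq hi) _)

/-- The elements of `H` fixing an elementary subgroup modulo its part in `S`. -/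
def N1 (i : Fin 2) : Subgroup G where
  carrier := {g | g ∈ Hc t ∧ g ∈ normalizer (L.A i : Set G) ∧
    ∀ a ∈ L.A i, g * a * g⁻¹ * a⁻¹ ∈ L.S}
  one_mem' := ⟨one_mem _, one_mem _, fun a _ => by simp⟩
  mul_mem' := by
    rintro g h ⟨g1, g2, g3⟩ ⟨h1, h2, h3⟩
    refine ⟨mul_mem g1 h1, mul_mem g2 h2, fun a ha => ?_⟩
    have := mul_mem (g3 _ (conj_mem_of_normalizer h2 ha)) (h3 a ha)
    simpa [mul_assoc] using this
  inv_mem' := by
    rintro g ⟨g1, g2, g3⟩
    refine ⟨inv_mem g1, inv_mem g2, fun a ha => ?_⟩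
    have := inv_mem (g3 _ (conj_mem_of_normalizer (inv_mem g2) ha))
    simpa [mul_assoc] using this

theorem N1_le_H (i : Fin 2) : L.N1 i ≤ Hc t := fun _g hg => hg.1

theorem N1_AS [Finite G] {i : Fin 2} {g x : G} (hg : g ∈ L.N1 i) (hx : x ∈ L.A i)
    (hS : x ∈ L.S) : g * x * g⁻¹ ∈ L.S := by
  by_cases h1 : x = 1
  · subst h1; simp
  · exact L.mem_S_of_type (L.A_le_T i (conj_mem_of_normalizer hg.2.1 hx))
      (((L.invol_S x hS (L.A_sq i x hx)).resolve_left h1).trans (isConj_iff.2 ⟨g, rfl⟩))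

end LocData

namespace Frame

variable {z t : G} {L : LocData z t} (F : Frame L)
include F

theorem A_decomp [Finite G] {i : Fin 2} {a : G} (ha : a ∈ L.A i) :
    ∃ s ∈ L.A i, s ∈ L.S ∧ ∃ v ∈ F.V, a = s * v := by
  obtain ⟨s, hs, v, hv, rfl⟩ := F.T0_decomp (L.A_le i ha)
  exact ⟨s, by simpa using mul_mem ha (inv_mem (L.Z0_le_A i (F.V_le_Z0 hv))), hs, v, hv, rfl⟩

theorem r_fix_A [Finite G] (i : Fin 2) : cj F.r (L.A i) = L.A i := by
  obtain ⟨k, hk⟩ := L.Nw_A F.r_mem i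
  obtain ⟨m, hm⟩ := L.Nw_A F.r_mem k
  obtain ⟨n, hn⟩ := L.Nw_A F.r_mem m
  by_contra hne
  have hki : k ≠ i := fun e => hne (e ▸ hk)
  have hmk : m ≠ k := fun e => hki (L.cj_A_inj (hk.trans ((e ▸ hm : cj F.r (L.A k) = L.A k)).symm)).symm
  have h3 : cj (F.r ^ 3) (L.A i) = L.A n := by
    rw [pow_succ, pow_two, cj_mul, cj_mul, hk, hm, hn]
  rw [F.r_pow, cj_one] at h3
  have hni : n = i := by
    fin_cases i <;> fin_cases n <;> first | rfl | exact absurd h3 L.A_ne |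
      exact absurd h3.symm L.A_ne
  have hmi : m = i := fin2_eq hki hmk
  exact hne (by rw [hmi, hni] at hn; exact hn)

/-- The transported group of an element fixing `V` and normalising `S` lies in `N1`. -/
theorem conj_mem_N1 [Finite G] {h g : G} {i k : Fin 2} (hh : h ∈ Hc t)
    (hk : cj h (L.A k) = L.A i) (hg : g ∈ L.Nw) (hgA : cj g (L.A k) = L.A k)
    (hgV : ∀ v ∈ F.V, g * v * g⁻¹ = v) : h * g * h⁻¹ ∈ L.N1 i := by
  have hi : cj h⁻¹ (L.A i) = L.A k := by rw [← hk, ← cj_mul, inv_mul_cancel, cj_one]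
  refine ⟨mul_mem (mul_mem hh hg.1) (inv_mem hh), normalizer_of_cj_eq ?_, fun a ha => ?_⟩
  · rw [cj_mul, hi, cj_mul, hgA, hk]
  rw [← hk] at ha
  obtain ⟨a', ha', rfl⟩ := ha
  obtain ⟨s, hsA, hsS, v, hv, rfl⟩ := F.A_decomp ha'
  set c := g * (s * v) * g⁻¹ * (s * v)⁻¹ with hc
  have hcS : c ∈ L.S := by
    have : c = g * s * g⁻¹ * s⁻¹ := by
      rw [hc, show g * (s * v) * g⁻¹ = g * s * g⁻¹ * (g * v * g⁻¹) by group, hgV v hv]; group
    rw [this]
    exact mul_mem (conj_mem_of_normalizer (L.Nw_S hg) hsS) (inv_mem hsS)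
  have hcA : c ∈ L.A k :=
    mul_mem (conj_mem_of_normalizer (normalizer_of_cj_eq hgA) ha') (inv_mem ha')
  show h * g * h⁻¹ * (MulAut.conj h (s * v)) * (h * g * h⁻¹)⁻¹ * (MulAut.conj h (s * v))⁻¹ ∈ L.S
  rw [MulAut.conj_apply, show h * g * h⁻¹ * (h * (s * v) * h⁻¹) * (h * g * h⁻¹)⁻¹ *
    (h * (s * v) * h⁻¹)⁻¹ = h * c * h⁻¹ by rw [hc]; group]
  by_cases hc1 : c = 1
  · rw [hc1]; simp
  · exact L.mem_S_of_type (L.A_le_T i (hk ▸ conj_mem_cj hcA))
      (((L.invol_S c hcS (L.A_sq k c hcA)).resolve_left hc1).trans (isConj_iff.2 ⟨h, rfl⟩))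

theorem conj_T0_mem_N1 [Finite G] {h g : G} {i k : Fin 2} (hh : h ∈ Hc t)
    (hk : cj h (L.A k) = L.A i) (hg : g ∈ L.T0) : h * g * h⁻¹ ∈ L.N1 i :=
  F.conj_mem_N1 hh hk (L.T_le_Nw (L.T0_le hg)) (L.T0_fix_A hg k)
    fun _v hv => conj_eq_iff.2 (F.V_comm hv hg).symm

theorem T0_le_N1 [Finite G] (i : Fin 2) : L.T0 ≤ L.N1 i := fun g hg => by
  simpa using F.conj_T0_mem_N1 (h := 1) (one_mem _) (cj_one (L.A i)) hg

theorem r_mem_N1 [Finite G] (i : Fin 2) : F.r ∈ L.N1 i := by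
  simpa using F.conj_mem_N1 (h := 1) (one_mem _) (cj_one (L.A i)) F.r_mem (F.r_fix_A i)
    fun _v hv => conj_eq_iff.2 (F.V_comm_r hv).symm

theorem r_ne : F.r ≠ 1 := fun e => L.z_ne (F.r_fpf z L.z_mem_W (by rw [e]; group))

theorem not_512 [Finite G] (i : Fin 2) : ¬ 512 ∣ Nat.card (L.N1 i) := by
  intro hdvd
  haveI : Fact (Nat.Prime 2) := ⟨Nat.prime_two⟩
  have h0 : Nat.card (L.T0.subgroupOf (L.N1 i)) = 2 ^ 8 := by
    rw [Nat.card_congr (subgroupOfEquivOfLe (F.T0_le_N1 i)).toEquiv, L.card_T0]; norm_num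
  obtain ⟨P, hP, hle⟩ := Sylow.exists_subgroup_card_pow_succ (p := 2) (n := 8)
    (G := L.N1 i) (by simpa using hdvd) h0
  set T := L.T0.subgroupOf (L.N1 i)
  have hn2 : (T.subgroupOf P).Normal := by
    apply normal_of_index_eq_two
    have := card_mul_index (T.subgroupOf P)
    rw [Nat.card_congr (subgroupOfEquivOfLe hle).toEquiv, h0, hP] at this
    omega
  obtain ⟨g, hgP, hgT⟩ : ∃ g ∈ P, g ∉ T := by
    by_contra h
    push Not at h
    have := card_le_of_le (show P ≤ T from h)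
    rw [hP, h0] at this
    omega
  have hgH : (g : G) ∈ Hc t := g.2.1
  have hgn : ∀ x ∈ L.T0, (g : G) * x * (g : G)⁻¹ ∈ L.T0 := by
    intro x hx
    have h1 : (⟨x, F.T0_le_N1 i hx⟩ : L.N1 i) ∈ T := hx
    have h2 := hn2.conj_mem ⟨_, hle h1⟩ h1 ⟨g, hgP⟩
    exact h2
  have hgW : (g : G) ∈ L.Nw := L.mem_Nw_of_conj hgH (by
    have hzT : (g : G) * z * (g : G)⁻¹ ∈ L.T0 := hgn z (L.W_le_T0 L.z_mem_W)
    have hzS : ∀ x ∈ L.S, (g : G) * x * (g : G)⁻¹ ∈ L.S := by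
      intro x hx
      suffices hle : L.S ≤ L.S.comap (MulAut.conj (g : G)).toMonoidHom from hle hx
      intro x hx
      rw [L.S_eq] at hx
      refine (closure_le _).2 (fun s hs => ?_) hx
      have hs0 : s ∈ L.T0 := L.S_le (L.mem_S_of_type hs.1 hs.2)
      exact L.mem_S_of_type (L.T0_le (hgn s hs0)) (hs.2.trans (isConj_iff.2 ⟨g, rfl⟩))
    have hN := mem_normalizer_of_conj hzS
    refine (L.W_eq _).2 ⟨hzS z L.z_mem_S, fun y hy => ?_⟩
    have hy' : (g : G)⁻¹ * y * g ∈ L.S := by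
      have h1 := conj_mem_of_normalizer (inv_mem hN) hy
      rwa [inv_inv] at h1
    calc (g : G) * z * (g : G)⁻¹ * y = g * (z * ((g : G)⁻¹ * y * g)) * (g : G)⁻¹ := by group
      _ = g * ((g : G)⁻¹ * y * g * z) * (g : G)⁻¹ := by
          rw [← (mem_Tz.1 (L.S_le_T hy')).1]
      _ = y * (g * z * (g : G)⁻¹) := by group)
  refine hgT (L.mem_T0_of_sq hgW ?_ (cj_eq_of_normalizer g.2.2.1))
  have h2 : (T.subgroupOf P).index = 2 := by
    have := card_mul_index (T.subgroupOf P)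
    rw [Nat.card_congr (subgroupOfEquivOfLe hle).toEquiv, h0, hP] at this
    omega
  exact mul_self_mem_of_index_two h2 (⟨g, hgP⟩ : P)

/-- `V` is centralised by the normalisers of the elementary subgroups. -/
theorem N1_cent_V [Finite G] {i : Fin 2} {g v : G} (hg : g ∈ L.N1 i) (hv : v ∈ F.V) :
    g * v = v * g := by
  classical
  set N := L.N1 i
  have hvA : v ∈ L.A i := L.Z0_le_A i (F.V_le_Z0 hv)
  letI : CommGroup (L.A i) :=
    { (inferInstance : Group (L.A i)) with mul_comm := fun a b => Subtype.ext (L.A_comm a.2 b.2) }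
  haveI := Fintype.ofFinite (L.A i)
  let O : Finset (L.A i) := Finset.univ.filter fun x => ∃ k ∈ N, k * v * k⁻¹ = x
  have hO : O.card = Nat.card {y : G // ∃ k ∈ N, k * v * k⁻¹ = y} := by
    rw [← Fintype.card_subtype, ← Nat.card_eq_fintype_card]
    exact Nat.card_congr
      { toFun := fun x => ⟨(x.1 : G), x.2⟩
        invFun := fun y => ⟨⟨y.1, by
          obtain ⟨k, hk, e⟩ := y.2; exact e ▸ conj_mem_of_normalizer hk.2.1 hvA⟩, y.2⟩
        left_inv := fun _ => rfl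
        right_inv := fun _ => rfl }
  have hodd : Odd O.card := by
    rw [hO, Nat.odd_iff, ← Nat.two_dvd_ne_zero]
    intro h2
    refine F.not_512 i ?_
    rw [← orbit_card N v, show (512 : ℕ) = 2 * 256 from rfl]
    refine Nat.mul_dvd_mul h2 (L.card_T0 ▸ card_dvd_of_le fun x hx => ?_)
    exact ⟨F.T0_le_N1 i hx, mem_Hc.2 (F.V_comm hv hx).symm⟩
  set p : L.A i := ∏ x ∈ O, x with hp
  have hfix : ∀ k ∈ N, k * (p : G) * k⁻¹ = p := by
    intro k hk
    have hkA := hk.2.1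
    let φ : L.A i →* L.A i := MonoidHom.mk'
      (fun x => ⟨k * x * k⁻¹, conj_mem_of_normalizer hkA x.2⟩)
      (fun x y => Subtype.ext (by push_cast; group))
    have h : φ p = p := by
      rw [hp, map_prod]
      refine Finset.prod_bij (fun x _ => φ x) (fun x hx => ?_) (fun x _ y _ e => ?_)
        (fun x hx => ?_) (fun _ _ => rfl)
      · obtain ⟨m, hm, e⟩ := (Finset.mem_filter.1 hx).2
        refine Finset.mem_filter.2 ⟨Finset.mem_univ _, k * m, mul_mem hk hm, ?_⟩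
        show k * m * v * (k * m)⁻¹ = k * (x : G) * k⁻¹
        rw [← e]; group
      · exact Subtype.ext (mul_left_cancel (mul_right_cancel (congrArg Subtype.val e)))
      · obtain ⟨m, hm, e⟩ := (Finset.mem_filter.1 hx).2
        refine ⟨⟨k⁻¹ * x * k, ?_⟩, Finset.mem_filter.2 ⟨Finset.mem_univ _, k⁻¹ * m,
          mul_mem (inv_mem hk) hm, ?_⟩, Subtype.ext ?_⟩
        · have h1 := conj_mem_of_normalizer (inv_mem hkA) x.2
          rwa [inv_inv] at h1
        · show k⁻¹ * m * v * (k⁻¹ * m)⁻¹ = k⁻¹ * (x : G) * k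
          rw [← e]; group
        · show k * (k⁻¹ * (x : G) * k) * k⁻¹ = x
          group
    exact congrArg Subtype.val h
  let AS : Subgroup (L.A i) := L.S.subgroupOf (L.A i)
  have hpv : (p : G) * v ∈ L.S := by
    set v' : L.A i := ⟨v, hvA⟩ with hv'
    have h1 : (∏ x ∈ O, (x * v')) ∈ AS := AS.prod_mem fun x hx => by
      obtain ⟨k, hk, e⟩ := (Finset.mem_filter.1 hx).2
      show (x : G) * v ∈ L.S
      have := hk.2.2 v hvA
      rwa [e, inv_eq_of_mul_eq_one_right (F.V_sq hv)] at this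
    rw [Finset.prod_mul_distrib, Finset.prod_const] at h1
    obtain ⟨m, hm⟩ := hodd
    rw [hm, pow_succ, pow_mul, show v' ^ 2 = 1 from Subtype.ext (by
      push_cast; rw [sq]; exact F.V_sq hv), one_pow, one_mul] at h1
    exact h1
  have hpV : (p : G) ∈ F.V := ⟨(L.Z0_eq _).2 ⟨L.A_le i p.2, fun y hy =>
      (conj_eq_iff.1 (hfix y (F.T0_le_N1 i hy))).symm⟩,
    mem_Hc.2 (conj_eq_iff.1 (hfix F.r (F.r_mem_N1 i))).symm⟩
  have he : (p : G) = v := by
    have := F.V_inf_S (mul_mem hpV hv) hpv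
    rw [← inv_eq_of_mul_eq_one_left this, inv_eq_of_mul_eq_one_right (F.V_sq hv)]
  exact conj_eq_iff.1 (he ▸ hfix g hg)

theorem stab_card [Finite G] {i : Fin 2} {j : G} (hj : j ∈ L.A i) (hjS : j ∈ L.S) (hj1 : j ≠ 1) :
    Nat.card (L.N1 i ⊓ Hc j : Subgroup G) = 256 := by
  obtain ⟨h, hht, hzj⟩ := L.pair_conj j ((L.invol_S j hjS (L.A_sq i j hj)).resolve_left hj1)
    (mem_Tz.1 (L.A_le_T i hj)).2
  have hh : h ∈ Hc t := mem_Hc.2 hht
  obtain ⟨k, hk⟩ : ∃ k, cj h (L.A k) = L.A i := by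
    have hc : ∀ x ∈ L.A i, h⁻¹ * x * h⁻¹⁻¹ * z = z * (h⁻¹ * x * h⁻¹⁻¹) := by
      intro x hx
      have e := L.A_comm hx hj
      rw [← hzj] at e
      calc h⁻¹ * x * h⁻¹⁻¹ * z = h⁻¹ * (x * (h * z * h⁻¹)) * h := by group
        _ = h⁻¹ * (h * z * h⁻¹ * x) * h := by rw [e]
        _ = z * (h⁻¹ * x * h⁻¹⁻¹) := by group
    rcases L.cj_A (inv_mem hh) i hc with e | e
    · exact ⟨0, by rw [← e, ← cj_mul, mul_inv_cancel, cj_one]⟩
    · exact ⟨1, by rw [← e, ← cj_mul, mul_inv_cancel, cj_one]⟩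
  rw [← L.card_T0, ← card_cj h L.T0]
  refine congrArg (fun X : Subgroup G => Nat.card X) (le_antisymm (fun g hg => ?_) ?_)
  · rw [mem_cj]
    by_contra hg0
    refine L.T_moves (mem_Tz.2 ⟨?_, mem_Hc.1
      (mul_mem (mul_mem (inv_mem hh) hg.1.1) hh)⟩) hg0 k ?_
    · have e := mem_Hc.1 hg.2
      rw [← hzj] at e
      calc h⁻¹ * g * h * z = h⁻¹ * (g * (h * z * h⁻¹)) * h := by group
        _ = h⁻¹ * (h * z * h⁻¹ * g) * h := by rw [e]
        _ = z * (h⁻¹ * g * h) := by group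
    · rw [cj_mul, hk, cj_mul, cj_eq_of_normalizer hg.1.2.1, ← hk, ← cj_mul, inv_mul_cancel,
        cj_one]
  · rintro _ ⟨x, hx, rfl⟩
    refine ⟨F.conj_T0_mem_N1 hh hk hx, mem_Hc.2 ?_⟩
    show h * x * h⁻¹ * j = j * (h * x * h⁻¹)
    have e := (mem_Tz.1 (L.T0_le hx)).1
    rw [← hzj]
    calc h * x * h⁻¹ * (h * z * h⁻¹) = h * (x * z) * h⁻¹ := by group
      _ = h * (z * x) * h⁻¹ := by rw [e]
      _ = h * z * h⁻¹ * (h * x * h⁻¹) := by group

/-- `N1` is transitive on the conjugates of `z` in the elementary subgroup. -/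
theorem N1_trans [Finite G] {i : Fin 2} {j : G} (hj : j ∈ L.A i) (hjS : j ∈ L.S) (hj1 : j ≠ 1) :
    ∃ g ∈ L.N1 i, g * z * g⁻¹ = j := by
  classical
  have hzA : z ∈ L.A i := L.Z0_le_A i (L.W_le_Z0 L.z_mem_W)
  set N := L.N1 i
  set O : G → Set G := fun x => {y | ∃ g ∈ N, g * x * g⁻¹ = y}
  set m := Nat.card (O z) with hm
  have hsz : ∀ x ∈ L.A i, x ∈ L.S → x ≠ 1 → Nat.card (O x) * 256 = Nat.card N := by
    intro x hx hxS hx1
    rw [← F.stab_card hx hxS hx1]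
    exact orbit_card N x
  have h3 : 3 ∣ Nat.card N := by
    have h := orderOf_dvd_natCard (⟨F.r, F.r_mem_N1 i⟩ : N)
    rwa [orderOf_mk, orderOf_eq_prime (p := 3) (hp := ⟨Nat.prime_three⟩) F.r_pow F.r_ne] at h
  have hN : m * 256 = Nat.card N := hsz z hzA L.z_mem_S L.z_ne
  rw [← hN] at h3
  have hm3 : 3 ∣ m := (Nat.Coprime.dvd_mul_right (by norm_num)).1 h3
  have hodd : ¬ 2 ∣ m := fun h => F.not_512 i (by
    rw [← hN, show 512 = 2 * 256 from rfl]; exact Nat.mul_dvd_mul h (dvd_refl _))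
  set X : Set G := {x | x ∈ L.A i ∧ x ∈ L.S ∧ x ≠ 1}
  have hX : X.ncard = 15 := by
    have hins : insert 1 X = ((L.A i ⊓ L.S : Subgroup G) : Set G) := by
      ext x
      simp only [Set.mem_insert_iff, X, Set.mem_ofPred_eq, SetLike.mem_coe, mem_inf]
      constructor
      · rintro (rfl | h)
        · exact ⟨one_mem _, one_mem _⟩
        · exact ⟨h.1, h.2.1⟩
      · intro h
        by_cases e : x = 1
        · exact Or.inl e
        · exact Or.inr ⟨h.1, h.2, e⟩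
    have h1 : 1 ∉ X := fun h => h.2.2 rfl
    have := Set.ncard_insert_of_notMem h1
    rw [hins, ← Nat.card_coe_set_eq] at this
    have h16 := L.card_AS i
    change Nat.card ((L.A i ⊓ L.S : Subgroup G) : Set G) = 16 at h16
    omega
  have hsub : ∀ x ∈ X, O x ⊆ X := by
    rintro x ⟨hx, hxS, hx1⟩ _ ⟨g, hg, rfl⟩
    exact ⟨conj_mem_of_normalizer hg.2.1 hx, L.N1_AS hg hx hxS,
      fun e => hx1 (conj_eq_one_iff.1 e)⟩
  have hzX : z ∈ X := ⟨hzA, L.z_mem_S, L.z_ne⟩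
  by_contra hne
  push Not at hne
  have hjO : j ∉ O z := fun ⟨g, hg, e⟩ => hne g hg e
  have hjX : j ∈ X := ⟨hj, hjS, hj1⟩
  have hoj : (O j).ncard = m := by
    have := hsz j hj hjS hj1
    rw [← Nat.card_coe_set_eq]
    omega
  have hdisj : Disjoint (O z) (O j) := Set.disjoint_left.2 fun y hy hy' => by
    obtain ⟨g, hg, rfl⟩ := hy
    obtain ⟨k, hk, e⟩ := hy'
    refine hne (k⁻¹ * g) (mul_mem (inv_mem hk) hg) ?_
    calc k⁻¹ * g * z * (k⁻¹ * g)⁻¹ = k⁻¹ * (g * z * g⁻¹) * k := by group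
      _ = j := by rw [← e]; group
  have hle : m + m ≤ 15 := by
    have h1 := Set.ncard_union_eq hdisj
    have h2 := Set.ncard_le_ncard (Set.union_subset (hsub z hzX) (hsub j hjX))
    rw [hX, h1, hoj, ← Nat.card_coe_set_eq] at h2
    exact h2
  have hm0 : m = 3 := by omega
  -- then `N1` normalises `W`
  have hW3 : ∀ y ∈ O z, y ∈ L.W := by
    set a := F.r * z * F.r⁻¹ with ha
    set b := F.r * a * F.r⁻¹ with hb
    have haW : a ∈ L.W := conj_mem_of_normalizer F.r_mem.2 L.z_mem_W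
    have hbW : b ∈ L.W := conj_mem_of_normalizer F.r_mem.2 haW
    have haz : a ≠ z := fun e => L.z_ne (F.r_fpf z L.z_mem_W e)
    have hba : b ≠ a := fun e => haz ((MulAut.conj F.r).injective e)
    have hr3 : F.r * b * F.r⁻¹ = z := by
      calc F.r * (F.r * (F.r * z * F.r⁻¹) * F.r⁻¹) * F.r⁻¹ = F.r ^ 3 * z * (F.r ^ 3)⁻¹ := by
            simp only [pow_succ, pow_zero, one_mul, mul_inv_rev, mul_assoc]
        _ = z := by rw [F.r_pow]; group
    have hbz : b ≠ z := fun e => haz (by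
      have h' := hr3
      rw [e] at h'
      exact h')
    have hsub3 : ({z, a, b} : Set G) ⊆ O z := by
      rintro y (rfl | rfl | rfl)
      · exact ⟨1, one_mem _, by group⟩
      · exact ⟨F.r, F.r_mem_N1 i, rfl⟩
      · exact ⟨F.r * F.r, mul_mem (F.r_mem_N1 i) (F.r_mem_N1 i), by rw [hb, ha]; group⟩
    have h3c : ({z, a, b} : Set G).ncard = 3 := Set.ncard_eq_three.2
      ⟨z, a, b, haz.symm, hbz.symm, hba.symm, rfl⟩
    have he : ({z, a, b} : Set G) = O z := Set.eq_of_subset_of_ncard_le hsub3 (by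
      rw [h3c, ← Nat.card_coe_set_eq]; omega)
    rw [← he]
    rintro y (rfl | rfl | rfl)
    exacts [L.z_mem_W, haW, hbW]
  have hjW : j ∈ L.W := by
    refine L.Z0_inf_S ((L.Z0_eq j).2 ⟨L.A_le i hj, fun y hy => ?_⟩) hjS
    suffices he : (N ⊓ Hc j : Subgroup G) = L.T0 by exact (mem_Hc.1 (he.ge hy).2).symm
    refine eq_of_le_of_card_ge (fun g hg => ?_) (by rw [F.stab_card hj hjS hj1, L.card_T0])
    have hgN : g ∈ L.Nw := L.mem_Nw_of_conj hg.1.1 (hW3 _ ⟨g, hg.1, rfl⟩)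
    refine L.mem_T0_of_pow hgN (cj_eq_of_normalizer hg.1.2.1) 8 ?_
    rw [two_group_order (H := N ⊓ Hc j) (n := 8) (by rw [F.stab_card hj hjS hj1]; norm_num) hg]
    exact one_mem _
  -- an element of `W` other than `1` is in the orbit
  obtain ⟨h, hht, hzj⟩ := L.pair_conj j (L.W_type hjW hj1) (mem_Tz.1 (L.A_le_T i hj)).2
  have hr1 : ∀ w ∈ L.W, w ≠ 1 → w ≠ z → w = F.r * z * F.r⁻¹ ∨
      w = F.r * (F.r * z * F.r⁻¹) * F.r⁻¹ := by
    intro w hw hw1 hwz
    have haW : F.r * z * F.r⁻¹ ∈ L.W := conj_mem_of_normalizer F.r_mem.2 L.z_mem_W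
    have hbW := conj_mem_of_normalizer F.r_mem.2 haW
    have ha1 : F.r * z * F.r⁻¹ ≠ 1 := fun e => L.z_ne (conj_eq_one_iff.1 e)
    have haz : F.r * z * F.r⁻¹ ≠ z := fun e => L.z_ne (F.r_fpf z L.z_mem_W e)
    rcases L.W_four haW ha1 haz hbW with e | e | e | e
    · exact absurd (conj_eq_one_iff.1 e) ha1
    · exfalso
      refine haz ?_
      have h3 : F.r * (F.r * (F.r * z * F.r⁻¹) * F.r⁻¹) * F.r⁻¹ = z := by
        calc F.r * (F.r * (F.r * z * F.r⁻¹) * F.r⁻¹) * F.r⁻¹ = F.r ^ 3 * z * (F.r ^ 3)⁻¹ := by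
              simp only [pow_succ, pow_zero, one_mul, mul_inv_rev, mul_assoc]
          _ = z := by rw [F.r_pow]; group
      rw [e] at h3
      exact h3
    · exact absurd ((MulAut.conj F.r).injective e) haz
    · rcases L.W_four haW ha1 haz hw with e' | e' | e' | e'
      · exact absurd e' hw1
      · exact absurd e' hwz
      · exact Or.inl e'
      · exact Or.inr (e'.trans e.symm)
  by_cases hjz : j = z
  · exact hne 1 (one_mem _) (by rw [hjz]; group)
  rcases hr1 j hjW hj1 hjz with e | e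
  · exact hne F.r (F.r_mem_N1 i) e.symm
  · exact hne (F.r * F.r) (mul_mem (F.r_mem_N1 i) (F.r_mem_N1 i)) (by rw [e]; group)

theorem card_N1 [Finite G] (i : Fin 2) : Nat.card (L.N1 i) = 3840 := by
  have hzA : z ∈ L.A i := L.Z0_le_A i (L.W_le_Z0 L.z_mem_W)
  rw [← orbit_card (L.N1 i) z, F.stab_card hzA L.z_mem_S L.z_ne]
  suffices h : Nat.card {y : G // ∃ g ∈ L.N1 i, g * z * g⁻¹ = y} = 15 by rw [h]
  have he : ∀ y : G, (∃ g ∈ L.N1 i, g * z * g⁻¹ = y) ↔ y ∈ (L.A i ⊓ L.S : Subgroup G) ∧ y ≠ 1 := by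
    intro y
    constructor
    · rintro ⟨g, hg, rfl⟩
      exact ⟨⟨conj_mem_of_normalizer hg.2.1 hzA, L.N1_AS hg hzA L.z_mem_S⟩,
        fun e => L.z_ne (conj_eq_one_iff.1 e)⟩
    · rintro ⟨hy, hy1⟩
      exact F.N1_trans hy.1 hy.2 hy1
  rw [Nat.card_congr (Equiv.subtypeEquivRight he)]
  have h16 := L.card_AS i
  have e : {y : G // y ∈ (L.A i ⊓ L.S : Subgroup G) ∧ y ≠ 1} ≃
      {y : (L.A i ⊓ L.S : Subgroup G) // y ≠ 1} :=
    { toFun := fun y => ⟨⟨y.1, y.2.1⟩, fun e => y.2.2 (congrArg Subtype.val e)⟩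
      invFun := fun y => ⟨y.1.1, y.1.2, fun e => y.2 (Subtype.ext e)⟩
      left_inv := fun _ => rfl
      right_inv := fun _ => rfl }
  rw [Nat.card_congr e]
  classical
  haveI := Fintype.ofFinite (L.A i ⊓ L.S : Subgroup G)
  rw [Nat.card_eq_fintype_card, Fintype.card_subtype_compl, ← Nat.card_eq_fintype_card, h16,
    Fintype.card_subtype_eq]

end Frame

end CfsgLib.Small.SuzOrder
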