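import Cfsg.Agent.Lib.Small.SuzOrder.Four.Quot
import Cfsg.Agent.S0215

/-!
`V` is normal in the centraliser of `t`: the commuting graph on the conjugates of `z` in `M` is
connected, so `V` is isolated modulo `t`, and Glauberman's theorem applies.
-/

set_option autoImplicit false
set_option linter.unusedSectionVars false
set_option linter.style.haveILetI false

namespace CfsgLib.Small.SuzOrder

open Subgroup

/-- A simple group with a proper subgroup of index `n` has order dividing `n!`. -/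
theorem simple_index_dvd {K : Type*} [Group K] [Finite K] [IsSimpleGroup K] (H : Subgroup K)
    (h : H ≠ ⊤) : Nat.card K ∣ (H.index).factorial := by
  classical
  have hc : H.normalCore = ⊥ :=
    (IsSimpleGroup.eq_bot_or_eq_top_of_normal _ H.normalCore_normal).resolve_right fun e =>
      h (eq_top_iff.2 (e ▸ H.normalCore_le))
  have hinj : Function.Injective (MulAction.toPermHom K (K ⧸ H)) :=
    (MonoidHom.ker_eq_bot_iff _).1 (by rw [← normalCore_eq_ker, hc])
  have := Subgroup.card_dvd_of_injective _ hinj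
  rwa [Nat.card_perm, ← index_eq_card] at this

variable {G : Type*} [Group G] {z t : G} {L : LocData z t}

namespace Frame

variable (F : Frame L)
include F

/-- Commuting conjugates of `z` in `M`. -/
def Adj (x y : G) : Prop :=
  (x ∈ F.M ∧ IsConj z x) ∧ (y ∈ F.M ∧ IsConj z y) ∧ x * y = y * x

/-- The connectedness relation of the commuting graph. -/
def Rel : G → G → Prop := Relation.ReflTransGen F.Adj

theorem rel_symm {x y : G} (h : F.Rel x y) : F.Rel y x :=
  by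
  induction h with
  | refl => exact Relation.ReflTransGen.refl
  | tail _ hab ih => exact Relation.ReflTransGen.head ⟨hab.2.1, hab.1, hab.2.2.symm⟩ ih

theorem rel_conj {m x y : G} (hm : m ∈ F.M) (h : F.Rel x y) :
    F.Rel (m * x * m⁻¹) (m * y * m⁻¹) := by
  induction h with
  | refl => exact Relation.ReflTransGen.refl
  | tail _ hab ih =>
    obtain ⟨⟨ha, ha'⟩, ⟨hb, hb'⟩, hc⟩ := hab
    refine ih.tail ⟨⟨mul_mem (mul_mem hm ha) (inv_mem hm), ha'.trans (isConj_iff.2 ⟨m, rfl⟩)⟩,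
      ⟨mul_mem (mul_mem hm hb) (inv_mem hm), hb'.trans (isConj_iff.2 ⟨m, rfl⟩)⟩, ?_⟩
    rw [← conj_mul, ← conj_mul, hc]

/-- The elements of `M` keeping `z` in its component. -/
def D : Subgroup G where
  carrier := {m | m ∈ F.M ∧ F.Rel z (m * z * m⁻¹)}
  one_mem' := ⟨one_mem _, by rw [one_mul, inv_one, mul_one]; exact Relation.ReflTransGen.refl⟩
  mul_mem' := by
    rintro a b ⟨ha, ha'⟩ ⟨hb, hb'⟩
    refine ⟨mul_mem ha hb, ?_⟩
    have h := ha'.trans (F.rel_conj ha hb')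
    rwa [show a * (b * z * b⁻¹) * a⁻¹ = a * b * z * (a * b)⁻¹ by group] at h
  inv_mem' := by
    rintro a ⟨ha, ha'⟩
    refine ⟨inv_mem ha, F.rel_symm ?_⟩
    have h := F.rel_conj (inv_mem ha) ha'
    rwa [show a⁻¹ * (a * z * a⁻¹) * a⁻¹⁻¹ = z by group] at h

theorem N1_le_D [Finite G] (i : Fin 2) : L.N1 i ≤ F.D := fun g hg => by
  have hzA : z ∈ L.A i := L.Z0_le_A i (L.W_le_Z0 L.z_mem_W)
  have hgA : g * z * g⁻¹ ∈ L.A i := conj_mem_of_normalizer hg.2.1 hzA
  have hgM := F.N1_le_M i hg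
  exact ⟨hgM, Relation.ReflTransGen.single ⟨⟨F.z_mem_M, IsConj.refl z⟩,
    ⟨mul_mem (mul_mem hgM F.z_mem_M) (inv_mem hgM), isConj_iff.2 ⟨g, rfl⟩⟩, L.A_comm hzA hgA⟩⟩

theorem D_eq [Finite G] : F.D = F.M := by
  have hle : F.D ≤ F.M := fun g hg => hg.1
  refine le_antisymm hle ?_
  haveI := F.simple
  set D' := (F.D.subgroupOf F.M).map F.π with hD'
  have hVD : F.VM ≤ F.D.subgroupOf F.M := fun v hv =>
    F.N1_le_D 0 (F.T0_le_N1 0 (F.V_le_T0 hv))
  have hi : D'.index = (F.D.subgroupOf F.M).index := by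
    rw [hD', index_map_eq]
    · exact QuotientGroup.mk'_surjective _
    · rw [QuotientGroup.ker_mk']; exact hVD
  suffices htop : D' = ⊤ by
    intro g hg
    have h1 : (F.D.subgroupOf F.M).index = 1 := by rw [← hi, htop, index_top]
    have h2 : (⟨g, hg⟩ : F.M) ∈ F.D.subgroupOf F.M := by
      rw [index_eq_one.1 h1]; exact mem_top _
    exact h2
  by_contra hne
  have hd := simple_index_dvd D' hne
  rw [F.card_quot, hi] at hd
  have hM : Nat.card F.M = 80640 := by rw [F.card_M_quot, F.card_quot]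
  have hdD : 3840 ∣ Nat.card F.D := F.card_N1 0 ▸ card_dvd_of_le (F.N1_le_D 0)
  have hne' : Nat.card F.D ≠ 3840 := fun h => F.N1_ne (
    (eq_of_le_of_card_ge (F.N1_le_D 0) (by rw [h, F.card_N1])).trans
      (eq_of_le_of_card_ge (F.N1_le_D 1) (by rw [h, F.card_N1])).symm)
  have hcard := card_mul_index (F.D.subgroupOf F.M)
  rw [Nat.card_congr (subgroupOfEquivOfLe hle).toEquiv, hM] at hcard
  obtain ⟨k, hk⟩ := hdD
  rw [hk] at hcard hne'
  set n := (F.D.subgroupOf F.M).index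
  have hkn : k * n = 21 := by
    have : 3840 * (k * n) = 3840 * 21 := by rw [← mul_assoc, hcard]
    omega
  have hk1 : k ≠ 1 := fun e => hne' (by rw [e])
  have hn : n ≤ 7 := by
    rcases Nat.lt_or_ge k 3 with h3 | h3
    · interval_cases k <;> omega
    · have := Nat.mul_le_mul_right n h3
      omega
  interval_cases n <;> norm_num [Nat.factorial] at hd

/-- All conjugates of `z` in `M` are connected to `z`. -/
theorem rel_z [Finite G] {x : G} (hx : x ∈ F.M) (hz : IsConj z x) : F.Rel z x := by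
  obtain ⟨m, hm, rfl⟩ := F.M_trans hx hz
  exact (F.D_eq.ge hm).2

theorem comm_type_mem [Finite G] {x y : G} (hx : x ∈ F.M) (hxz : IsConj z x) (hy : y ∈ Hc t)
    (hyz : IsConj z y) (hc : x * y = y * x) : y ∈ F.M := by
  obtain ⟨m, hm, rfl⟩ := F.M_trans hx hxz
  have hy' : m⁻¹ * y * m ∈ Tz z t := mem_Tz.2 ⟨by
    calc m⁻¹ * y * m * z = m⁻¹ * (y * (m * z * m⁻¹)) * m := by group
      _ = m⁻¹ * (m * z * m⁻¹ * y) * m := by rw [hc]
      _ = z * (m⁻¹ * y * m) := by group,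
    mem_Hc.1 (mul_mem (mul_mem (inv_mem (F.M_le_H hm)) hy) (F.M_le_H hm))⟩
  have h : m⁻¹ * y * m ∈ F.M := F.T0_le_M (L.S_le (L.mem_S_of_type hy'
    (hyz.trans (isConj_iff.2 ⟨m⁻¹, by rw [inv_inv]⟩))))
  have h' := mul_mem (mul_mem hm h) (inv_mem hm)
  rwa [show m * (m⁻¹ * y * m) * m⁻¹ = y by group] at h'

theorem move_types [Finite G] {g : G} (hg : g ∈ Hc t) (h : g * z * g⁻¹ ∈ F.M) {x : G}
    (hx : x ∈ F.M) (hxz : IsConj z x) : g * x * g⁻¹ ∈ F.M := by
  have hr := F.rel_z hx hxz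
  clear hx hxz
  induction hr with
  | refl => exact h
  | tail _ hab ih =>
    obtain ⟨⟨_, ha'⟩, ⟨hb, hb'⟩, hc⟩ := hab
    refine F.comm_type_mem ih (ha'.trans (isConj_iff.2 ⟨g, rfl⟩))
      (mul_mem (mul_mem hg (F.M_le_H hb)) (inv_mem hg)) (hb'.trans (isConj_iff.2 ⟨g, rfl⟩)) ?_
    rw [← conj_mul, ← conj_mul, hc]

/-- An element of `H` centralising every conjugate of `z` in `M` lies in `V`. -/
theorem cent_types [Finite G] {c : G} (hc : c ∈ Hc t)
    (h : ∀ x ∈ F.M, IsConj z x → c * x = x * c) : c ∈ F.V := by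
  have hcT : c ∈ Tz z t := mem_Tz.2 ⟨h z F.z_mem_M (IsConj.refl z), mem_Hc.1 hc⟩
  have hc0 : c ∈ L.T0 := (L.T0_eq c).2 ⟨hcT, fun w hw => by
    by_cases hw1 : w = 1
    · subst hw1; simp
    · exact h w (F.T0_le_M (L.W_le_T0 hw)) (L.W_type hw hw1)⟩
  have hcS : ∀ s ∈ L.S, c * s = s * c := by
    intro s hs
    rw [L.S_eq] at hs
    have hle : closure {x : G | x ∈ Tz z t ∧ IsConj z x} ≤ Hc c :=
      (closure_le _).2 fun y hy => mem_Hc.2
        (h y (F.T0_le_M (L.S_le (L.mem_S_of_type hy.1 hy.2))) hy.2).symm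
    exact (mem_Hc.1 (hle hs)).symm
  have hcM := F.T0_le_M hc0
  refine ⟨(L.Z0_eq c).2 ⟨hc0, fun y hy => ?_⟩, mem_Hc.2 ?_⟩
  · obtain ⟨s, hs, v, hv, rfl⟩ := F.T0_decomp hy
    rw [← mul_assoc, hcS s hs, mul_assoc, F.mem_M.1 hcM v hv, mul_assoc]
  · -- the elements of `M` commuting with `c` map onto the simple quotient
    haveI := F.simple
    set X : Subgroup G := closure {x | x ∈ F.M ∧ IsConj z x} with hX
    have hXc : X ≤ Hc c := (closure_le _).2 fun y hy => mem_Hc.2 (h y hy.1 hy.2).symm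
    set Y := X.subgroupOf F.M with hY
    have hYn : Y.Normal := ⟨fun y hy m => by
      show (m : G) * y * (m : G)⁻¹ ∈ X
      have hle : X ≤ X.comap (MulAut.conj (m : G)).toMonoidHom :=
        (closure_le _).2 fun a ha => subset_closure
          ⟨mul_mem (mul_mem m.2 ha.1) (inv_mem m.2), ha.2.trans (isConj_iff.2 ⟨m, rfl⟩)⟩
      exact hle hy⟩
    have hne : Y.map F.π ≠ ⊥ := fun e => F.πz_ne (mem_bot.1 (e ▸ ⟨⟨z, F.z_mem_M⟩,
      subset_closure ⟨F.z_mem_M, IsConj.refl z⟩, rfl⟩))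
    have htop := (IsSimpleGroup.eq_bot_or_eq_top_of_normal _
      (hYn.map F.π (QuotientGroup.mk'_surjective _))).resolve_left hne
    obtain ⟨⟨l, hl⟩, hlX, e⟩ := htop.ge (mem_top (F.π ⟨F.r, F.r_mem_M⟩))
    have hv : l⁻¹ * F.r ∈ F.V := F.π_eq.1 e
    have h1 : l * c = c * l := mem_Hc.1 (hXc hlX)
    have h2 : l⁻¹ * F.r * c = c * (l⁻¹ * F.r) := (F.mem_M.1 hcM _ hv).symm
    calc c * F.r = c * l * (l⁻¹ * F.r) := by group
      _ = l * (c * (l⁻¹ * F.r)) := by rw [← h1]; group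
      _ = l * (l⁻¹ * F.r * c) := by rw [h2]
      _ = F.r * c := by group

theorem norm_of_move [Finite G] {g : G} (hg : g ∈ Hc t) (h : g * z * g⁻¹ ∈ F.M) :
    g ∈ normalizer (F.V : Set G) := by
  refine mem_normalizer_of_conj fun v hv => ?_
  set Γ : Set G := {x | x ∈ F.M ∧ IsConj z x}
  have hinj : Function.Injective fun x : G => g * x * g⁻¹ :=
    fun a b e => mul_left_cancel (mul_right_cancel e)
  have heq : (fun x : G => g * x * g⁻¹) '' Γ = Γ := by
    refine Set.eq_of_subset_of_ncard_le ?_ (Set.ncard_image_of_injective _ hinj).ge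
      (Set.toFinite _)
    rintro _ ⟨x, ⟨hx, hxz⟩, rfl⟩
    exact ⟨F.move_types hg h hx hxz, hxz.trans (isConj_iff.2 ⟨g, rfl⟩)⟩
  refine F.cent_types (mul_mem (mul_mem hg (F.M_le_H (F.V_le_M hv))) (inv_mem hg))
    fun y hy hyz => ?_
  obtain ⟨x, ⟨hx, -⟩, rfl⟩ := heq.ge ⟨hy, hyz⟩
  rw [← conj_mul, ← conj_mul, F.mem_M.1 hx v hv]

theorem exists_v [Finite G] : ∃ v ∈ F.V, v ≠ 1 ∧ v ≠ t := by
  by_contra h
  push Not at h
  have h2 : Nat.card F.V ≤ 2 := by
    have hsub : (F.V : Set G) ⊆ {1, t} := fun v hv => by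
      by_cases hv1 : v = 1
      · exact Or.inl hv1
      · exact Or.inr (h v hv hv1)
    have h' := Set.ncard_le_ncard hsub (Set.toFinite _)
    rw [← Nat.card_coe_set_eq] at h'
    exact h'.trans ((Set.ncard_insert_le _ _).trans (by rw [Set.ncard_singleton]))
  rw [F.card_V] at h2
  omega

theorem V_cases [Finite G] {v : G} (hv : v ∈ F.V) (hv1 : v ≠ 1) (hvt : v ≠ t) {u : G}
    (hu : u ∈ F.V) : u = 1 ∨ u = t ∨ u = v ∨ u = t * v := by
  have h1 : t * v ≠ 1 := fun e => hvt (by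
    rw [← inv_eq_of_mul_eq_one_right e, inv_eq_of_mul_eq_one_right L.tt])
  have h2 : t * v ≠ t := fun e => hv1 (mul_eq_left.1 e)
  have h3 : t * v ≠ v := fun e => L.t_ne (mul_eq_right.1 e)
  have he : ({1, t, v, t * v} : Set G) = F.V := by
    refine Set.eq_of_subset_of_ncard_le ?_ ?_ (Set.toFinite _)
    · rintro _ (rfl | rfl | rfl | rfl)
      exacts [one_mem _, F.t_mem_V, hv, mul_mem F.t_mem_V hv]
    · rw [← Nat.card_coe_set_eq]
      change Nat.card F.V ≤ _
      rw [F.card_V, Set.ncard_insert_of_notMem, Set.ncard_insert_of_notMem, Set.ncard_pair h3.symm]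
      · simp [Ne.symm hvt, h2.symm]
      · simp [L.t_ne.symm, hv1.symm, h1.symm]
  have := he.ge hu
  simpa using this

/-- `V` is normal in the centraliser of `t`. -/
theorem V_normal [Finite G] : ∀ g ∈ Hc t, g ∈ normalizer (F.V : Set G) := by
  haveI : Fact (Nat.Prime 2) := ⟨Nat.prime_two⟩
  obtain ⟨v, hv, hv1, hvt⟩ := F.exists_v
  have hvv := F.V_sq hv
  have hvH : v ∈ Hc t := F.M_le_H (F.V_le_M hv)
  set tH : Hc t := ⟨t, mem_Hc.2 rfl⟩ with htH
  have hC : zpowers tH ≤ center (Hc t) := zpowers_le.2 (mem_center_iff.2 fun x =>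
    Subtype.ext (mem_Hc.1 x.2))
  haveI hCn : (zpowers tH).Normal := ⟨fun x hx g => by
    rw [mem_center_iff.1 (hC hx) g, mul_inv_cancel_right]; exact hx⟩
  set q := QuotientGroup.mk' (zpowers tH) with hq
  have hker : ∀ {x : Hc t}, q x = 1 → x = 1 ∨ x = tH := by
    intro x hx
    obtain ⟨k, hk⟩ := mem_zpowers_iff.1 ((QuotientGroup.eq_one_iff x).1 hx)
    have h2 : tH ^ (2 : ℤ) = 1 := Subtype.ext (by
      rw [htH]; push_cast; rw [show (2 : ℤ) = ((2 : ℕ) : ℤ) from rfl, zpow_natCast, sq, L.tt])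
    rw [← hk, ← Int.emod_add_mul_ediv k 2, zpow_add, zpow_mul, h2, one_zpow, mul_one]
    rcases Int.emod_two_eq k with e | e <;> rw [e]
    · exact Or.inl (zpow_zero _)
    · exact Or.inr (zpow_one _)
  -- the image of `Tz z t` is a Sylow subgroup
  set T := (Tz z t).subgroupOf (Hc t) with hT
  have hTc : Nat.card T = 2 ^ 9 := by
    rw [hT, Nat.card_congr (subgroupOfEquivOfLe (LocData.T_le_H (z := z) (t := t))).toEquiv,
      L.card_T]
    norm_num
  have hTi : ¬ 2 ∣ T.index := fun h => L.not_1024 (by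
    rw [← card_mul_index T, hTc]
    exact Nat.mul_dvd_mul_left _ h)
  let P : Sylow 2 (Hc t) := (IsPGroup.of_card hTc).toSylow hTi
  let P' := P.mapSurjective (f := q) (QuotientGroup.mk'_surjective _)
  have hvT : v ∈ Tz z t := L.T0_le (F.V_le_T0 hv)
  have hvne : q ⟨v, hvH⟩ ≠ 1 := fun e => by
    rcases hker e with e' | e'
    · exact hv1 (congrArg Subtype.val e')
    · exact hvt (congrArg Subtype.val e')
  have hord : orderOf (q ⟨v, hvH⟩) = 2 := orderOf_eq_prime (by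
    rw [← map_pow, show (⟨v, hvH⟩ : Hc t) ^ 2 = 1 from Subtype.ext (by push_cast; rw [sq, hvv]),
      map_one]) hvne
  have hiso : ∀ g, g * q ⟨v, hvH⟩ * g⁻¹ ∈ P' → g * q ⟨v, hvH⟩ * g⁻¹ = q ⟨v, hvH⟩ := by
    intro g hg
    obtain ⟨g, rfl⟩ := QuotientGroup.mk'_surjective _ g
    rw [← map_inv, ← map_mul, ← map_mul] at hg ⊢
    obtain ⟨x, hx, e⟩ := hg
    have hT' : (g : G) * v * (g : G)⁻¹ ∈ Tz z t := by
      have hx' : (x : G) ∈ Tz z t := hx
      have h1 : q (x⁻¹ * (g * ⟨v, hvH⟩ * g⁻¹)) = 1 := by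
        rw [map_mul, map_inv, e, inv_mul_cancel]
      rcases hker h1 with e' | e' <;> rw [inv_mul_eq_iff_eq_mul] at e' <;>
        have e'' := congrArg Subtype.val e' <;> push_cast at e'' <;> rw [e'']
      · simpa using hx'
      · exact mul_mem hx' L.t_mem_T
    have hcz : (g : G) * v * (g : G)⁻¹ * z = z * ((g : G) * v * (g : G)⁻¹) := (mem_Tz.1 hT').1
    set y := (g : G)⁻¹ * z * g with hy
    have hyH : y ∈ Hc t := mul_mem (mul_mem (inv_mem g.2) L.z_mem_H) g.2
    have hvy : v * y = y * v := by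
      calc v * ((g : G)⁻¹ * z * g) = (g : G)⁻¹ * (g * v * (g : G)⁻¹ * z) * g := by group
        _ = (g : G)⁻¹ * (z * (g * v * (g : G)⁻¹)) * g := by rw [hcz]
        _ = (g : G)⁻¹ * z * g * v := by group
    have hyM : y ∈ F.M := F.mem_M.2 fun u hu => by
      have hty : y * t = t * y := mem_Hc.1 hyH
      rcases F.V_cases hv hv1 hvt hu with e' | e' | e' | e' <;> rw [e']
      · simp
      · exact hty
      · exact hvy.symm
      · rw [← mul_assoc, hty, mul_assoc, hvy.symm, ← mul_assoc]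
    have hgN : (g : G) ∈ normalizer (F.V : Set G) := by
      have h := F.norm_of_move (inv_mem g.2) (by rw [inv_inv]; exact hyM)
      simpa using inv_mem h
    have hgv := conj_mem_of_normalizer hgN hv
    rcases F.V_cases hv hv1 hvt hgv with e' | e' | e' | e'
    · exact absurd (conj_eq_one_iff.1 e') hv1
    · refine absurd ?_ hvt
      have e2 : (g : G) * v * (g : G)⁻¹ = g * t * (g : G)⁻¹ := by
        rw [e', conj_eq_iff.2 (mem_Hc.1 g.2)]
      exact mul_left_cancel (mul_right_cancel e2)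
    · congr 1
      exact Subtype.ext e'
    · rw [show g * ⟨v, hvH⟩ * g⁻¹ = tH * ⟨v, hvH⟩ from Subtype.ext e', map_mul,
        (QuotientGroup.eq_one_iff tH).2 (mem_zpowers tH) |> (show q tH = 1 from ·), one_mul]
  obtain ⟨N, hN, hNodd, hNc⟩ := Cfsg.Agent.S0215.result P' (q ⟨v, hvH⟩) hord
    ⟨⟨v, hvH⟩, hvT, rfl⟩ hiso
  -- there is no odd core
  have key : ∀ {w : G} (hw : w ∈ L.W) (hwH : w ∈ Hc t), w ≠ 1 →
      ∀ n ∈ N, q ⟨w, hwH⟩ * n = n * q ⟨w, hwH⟩ → n = 1 := by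
    intro w hw hwH hw1 n hn hc
    obtain ⟨x, rfl⟩ := QuotientGroup.mk'_surjective _ n
    have hwS := L.W_le_S hw
    have hwz := L.W_type hw hw1
    have hxw : (x : G) * w * (x : G)⁻¹ = w := by
      have h1 : q ((x * ⟨w, hwH⟩ * x⁻¹) * (⟨w, hwH⟩ : Hc t)⁻¹) = 1 := by
        simp only [map_mul, map_inv]
        rw [show q x * q ⟨w, hwH⟩ = q ⟨w, hwH⟩ * q x from hc.symm]
        group
      rcases hker h1 with e' | e' <;> rw [mul_inv_eq_iff_eq_mul] at e' <;>
        have e'' := congrArg Subtype.val e' <;> push_cast at e''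
      · simpa using e''
      · exfalso
        refine L.t_not_S ?_
        have htw : t * w ∈ L.S := L.mem_S_of_type (mul_mem L.t_mem_T (L.S_le_T hwS))
          (hwz.trans (isConj_iff.2 ⟨(x : G), e''⟩))
        have := mul_mem htw (inv_mem hwS)
        rwa [mul_inv_cancel_right] at this
    obtain ⟨h, hht, hhz⟩ := L.pair_conj w hwz (mem_Tz.1 (L.S_le_T hwS)).2
    have hxT : h⁻¹ * x * h ∈ Tz z t := mem_Tz.2 ⟨by
      have e2 := conj_eq_iff.1 hxw
      rw [← hhz] at e2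
      calc h⁻¹ * x * h * z = h⁻¹ * (x * (h * z * h⁻¹)) * h := by group
        _ = h⁻¹ * (h * z * h⁻¹ * x) * h := by rw [e2]
        _ = z * (h⁻¹ * x * h) := by group,
      mem_Hc.1 (mul_mem (mul_mem (inv_mem (mem_Hc.2 hht)) x.2) (mem_Hc.2 hht))⟩
    have hx9 : (h⁻¹ * (x : G) * h⁻¹⁻¹) ^ (2 ^ 9) = 1 := by
      rw [inv_inv]
      exact two_group_order (n := 9) (by rw [L.card_T]; norm_num) hxT
    rw [conj_pow, conj_eq_one_iff] at hx9
    have hx9' : q x ^ (2 ^ 9) = 1 := by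
      rw [← map_pow, show x ^ (2 ^ 9) = 1 from Subtype.ext (by push_cast; exact hx9), map_one]
    refine orderOf_eq_one_iff.1 (Nat.eq_one_of_dvd_coprimes
      (Nat.Coprime.pow_left 9 (Nat.coprime_two_left.2 hNodd))
      (orderOf_dvd_of_pow_eq_one hx9') (Subgroup.orderOf_dvd_natCard N hn))
  have hN0 : N = ⊥ := by
    set a := F.r * z * F.r⁻¹ with ha
    have haW : a ∈ L.W := conj_mem_of_normalizer F.r_mem.2 L.z_mem_W
    have ha1 : a ≠ 1 := fun e => L.z_ne (conj_eq_one_iff.1 e)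
    have hza1 : z * a ≠ 1 := fun e => L.z_ne (F.r_fpf z L.z_mem_W
      ((inv_eq_of_mul_eq_one_right e).symm.trans (inv_eq_of_mul_eq_one_right L.zz)))
    have haH : a ∈ Hc t := F.M_le_H (F.T0_le_M (L.W_le_T0 haW))
    haveI := hN
    refine L34Cent.eq_bot_of_three_fpf N hNodd (q ⟨z, L.z_mem_H⟩) (q ⟨a, haH⟩) ?_ ?_
      (key L.z_mem_W L.z_mem_H L.z_ne) (key haW haH ha1) fun n hn => ?_
    · rw [← map_mul, show (⟨z, L.z_mem_H⟩ : Hc t) * ⟨z, L.z_mem_H⟩ = 1 from Subtype.ext L.zz,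
        map_one]
    · rw [← map_mul, show (⟨a, haH⟩ : Hc t) * ⟨a, haH⟩ = 1 from Subtype.ext (L.sq_W a haW),
        map_one]
    · rw [← map_mul]
      exact key (mul_mem L.z_mem_W haW) (mul_mem L.z_mem_H haH) hza1 n hn
  intro g hg
  have h := hNc (q ⟨g, hg⟩)
  rw [hN0, mem_bot, ← map_inv, ← map_inv, ← map_mul, ← map_mul, ← map_mul] at h
  have hgv : (v * g * v⁻¹ * g⁻¹ : G) ∈ F.V := by
    rcases hker h with e | e <;> have e' := congrArg Subtype.val e <;> push_cast at e' <;> rw [e']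
    exacts [one_mem _, F.t_mem_V]
  have hgv' : g * v * g⁻¹ ∈ F.V := by
    have h2 := inv_mem (mul_mem (inv_mem hv) hgv)
    have e : (v⁻¹ * (v * g * v⁻¹ * g⁻¹))⁻¹ = g * v * g⁻¹ := by group
    rwa [e] at h2
  refine mem_normalizer_of_conj fun u hu => ?_
  rcases F.V_cases hv hv1 hvt hu with e | e | e | e <;> rw [e]
  · simpa using one_mem F.V
  · rw [conj_eq_iff.2 (mem_Hc.1 hg)]; exact F.t_mem_V
  · exact hgv'
  · rw [conj_mul, conj_eq_iff.2 (mem_Hc.1 hg)]
    exact mul_mem F.t_mem_V hgv'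

end Frame

end CfsgLib.Small.SuzOrder
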